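import Cfsg.Agent.Lib.ZNStructure.Pair
import Cfsg.Agent.Lib.LocalEven.JComp.Second
import Cfsg.Agent.S2947
import Cfsg.Agent.S2954

/-!
Groups of characteristic 2 type with solvable 2-local subgroups and `C(Ω₁(Z(S))) ≤ N(S)`: a
strongly embedded subgroup, or two maximal 2-local subgroups `S₄` of `O²(G)` meeting in a `D₈`.
-/

set_option autoImplicit false

open Cfsg

namespace CfsgLib.ZNStructure

variable {G : Type*} [Group G] [Finite G]

theorem mulZMod2_sq : ∀ c : Multiplicative (ZMod 2), c * c = 1 := by decide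

/-- What is needed of one of the two subgroups inside `H = O²(G)`. -/
theorem inside {H P T V A D : Subgroup G} [hHn : H.Normal]
    (hH : ∀ g : G, Odd (orderOf g) → g ∈ H) (f : Four P T V A)
    (hP : Nat.card P = 24 * Nat.card A) (hA : A ⊓ H = ⊥) (hDT : D ≤ T) (hDH : D ≤ H)
    (hD : Nat.card D = 8) :
    V ≤ H ∧ Nat.card ↥(P.subgroupOf H) = 24 ∧ D ≤ P ∧
      Nonempty (↥(P.subgroupOf H) ≃* Equiv.Perm (Fin 4)) ∧
      Cfsg.IsMaximalTwoLocal (P.subgroupOf H) := by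
  classical
  have hoddH : oddPart P ≤ H := (Subgroup.closure_le _).2 fun g hg => hH g hg.2
  have hVH : V ≤ H := f.le_odd.trans hoddH
  have hVP : V ≤ P := f.le.trans f.syl.1
  obtain ⟨π, hπ, hπk⟩ := f.perm
  set M := P.subgroupOf H with hM
  let ι : ↥M →* ↥P :=
    { toFun := fun x => ⟨((x : ↥H) : G), x.2⟩
      map_one' := rfl
      map_mul' := fun _ _ => rfl }
  set ρ : ↥M →* Equiv.Perm (Fin 4) := π.comp ι
  have hρ : Function.Injective ρ := by
    rw [injective_iff_map_eq_one]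
    intro x hx
    have : ((x : ↥H) : G) ∈ A ⊓ H := ⟨hπ _ hx, (x : ↥H).2⟩
    rw [hA, Subgroup.mem_bot] at this
    exact Subtype.ext (Subtype.ext this)
  have hdvd : Nat.card M ∣ 24 := by
    have := Subgroup.card_dvd_of_injective ρ hρ
    rwa [Nat.card_perm, Nat.card_fin] at this
  have h8 : 8 ∣ Nat.card M := by
    have h1 : D.subgroupOf H ≤ M := fun x hx => f.syl.1 (hDT hx)
    have := Subgroup.card_dvd_of_le h1
    rwa [Nat.card_congr (Subgroup.subgroupOfEquivOfLe hDH).toEquiv, hD] at this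
  have h3 : 3 ∣ Nat.card M := by
    haveI : Fact (Nat.Prime 3) := ⟨Nat.prime_three⟩
    obtain ⟨⟨x, hxP⟩, hx⟩ := exists_prime_orderOf_dvd_card' (G := ↥P) 3
      (hP ▸ Dvd.dvd.mul_right (by norm_num) _)
    have hx' : orderOf x = 3 := by rw [← hx, Subgroup.orderOf_mk]
    have hxH : x ∈ H := hH x (by rw [hx']; decide)
    have := orderOf_dvd_natCard (⟨⟨x, hxH⟩, hxP⟩ : ↥M)
    rwa [← Subgroup.orderOf_coe, ← Subgroup.orderOf_coe, hx'] at this
  have h24 : Nat.card M = 24 :=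
    Nat.dvd_antisymm hdvd (Nat.Coprime.mul_dvd_of_dvd_of_dvd (by norm_num) h8 h3)
  have hbij : Function.Bijective ρ :=
    (Nat.bijective_iff_injective_and_card _).2
      ⟨hρ, by rw [h24, Nat.card_perm, Nat.card_fin]; rfl⟩
  refine ⟨hVH, h24, hDT.trans f.syl.1, ⟨MulEquiv.ofBijective ρ hbij⟩, ?_, ?_⟩
  · refine ⟨V.subgroupOf H, ?_, fun e => ?_, ?_⟩
    · exact (f.syl.2.1.to_le f.le).comap_subtype
    · have := Nat.card_congr (Subgroup.subgroupOfEquivOfLe hVH).toEquiv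
      rw [f.card, e, Subgroup.card_bot] at this
      norm_num at this
    · rw [hM, ← f.normEq]
      ext x
      simp only [Subgroup.mem_subgroupOf, Subgroup.mem_normalizer_iff]
      refine ⟨fun hx y => ?_, fun hx y => ⟨fun hy => ?_, fun hy => ?_⟩⟩
      · exact hx y
      · exact (hx ⟨y, hVH hy⟩).1 hy
      · have hyH : y ∈ H := by
          have := hHn.conj_mem _ (hVH hy) (x : G)⁻¹
          simpa [mul_assoc] using this
        exact (hx ⟨y, hyH⟩).2 hy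
  · rintro N ⟨X, hX, hX1, rfl⟩ hMN
    refine le_antisymm ?_ hMN
    set Vh := V.subgroupOf H with hVh
    have hVhM : Vh ≤ M := fun x hx => hVP hx
    -- a 2-subgroup normalized by `M` and contained in it lies in `V`
    have small : ∀ R : Subgroup ↥H, IsPGroup 2 R → R ≤ M →
        M ≤ Subgroup.normalizer (R : Set ↥H) → R ≤ Vh := by
      intro R hR hRM hn r hr
      set r' : ↥M := ⟨r, hRM hr⟩
      by_cases hk : ρ r' ∈ klein
      · obtain ⟨v, hv, hvP, hev⟩ := hπk _ hk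
        have e : ρ ⟨⟨v, hVH hv⟩, hvP⟩ = ρ r' := hev
        have e' : v = (r : G) :=
          congrArg (fun x : ↥M => ((x : ↥H) : G)) (hρ e)
        show (r : G) ∈ V
        exact e' ▸ hv
      · exfalso
        obtain ⟨k, hk2⟩ := hR ⟨r, hr⟩
        have hk2' : r' ^ 2 ^ k = 1 :=
          Subtype.ext (by simpa using congrArg Subtype.val hk2)
        have h3 : ρ r' ^ 3 ≠ 1 := fun h3 => hk (by
          rw [eq_one_of_two_pow_odd h3 (by decide) (show ρ r' ^ 2 ^ k = 1 by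
            rw [← map_pow, hk2', map_one])]
          exact one_mem _)
        obtain ⟨τ, hc3, hc1⟩ := outer_three _ hk h3
        obtain ⟨m, rfl⟩ := hbij.2 τ
        set c : ↥M := r' * (m * r'⁻¹ * m⁻¹) with hc
        have hcR : (c : ↥H) ∈ R :=
          R.mul_mem hr ((Subgroup.mem_normalizer_iff.1 (hn m.2) (r : ↥H)⁻¹).1 (R.inv_mem hr))
        obtain ⟨j, hj⟩ := hR ⟨_, hcR⟩
        have hj' : c ^ 2 ^ j = 1 := Subtype.ext (by simpa using congrArg Subtype.val hj)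
        refine hc1 (eq_one_of_two_pow_odd (n := 3) (k := j) hc3 (by decide) ?_)
        have e : ρ c = ρ r' * (ρ m * (ρ r')⁻¹ * (ρ m)⁻¹) := by simp [hc]
        rw [← e, ← map_pow, hj', map_one]
    have hnV : M ≤ Subgroup.normalizer (Vh : Set ↥H) := by
      intro x hx
      rw [Subgroup.mem_normalizer_iff]
      intro y
      exact Subgroup.mem_normalizer_iff.1 (f.norm hx) (y : G)
    set W := X ⊔ Vh with hW
    have hWp : IsPGroup 2 W :=
      hX.to_sup_of_normal_left' (f.syl.2.1.to_le f.le).comap_subtype (hVhM.trans hMN)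
    have hnW : M ≤ Subgroup.normalizer (W : Set ↥H) := fun x hx => by
      rw [Subgroup.mem_normalizer_iff_map_conj_eq, hW, Subgroup.map_sup,
        Subgroup.mem_normalizer_iff_map_conj_eq.1 (hMN hx),
        Subgroup.mem_normalizer_iff_map_conj_eq.1 (hnV hx)]
    have hWM : W ⊓ M ≤ Vh := small _ (hWp.to_le inf_le_left) inf_le_right fun x hx => by
      rw [Subgroup.mem_normalizer_iff_map_conj_eq, Subgroup.map_inf _ _ _ (MulAut.conj x).injective,
        Subgroup.mem_normalizer_iff_map_conj_eq.1 (hnW hx),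
        Subgroup.mem_normalizer_iff_map_conj_eq.1 (Subgroup.le_normalizer hx)]
    have hWeq : Vh = W := by
      by_contra hne
      obtain ⟨y, hy, hyV, hyn⟩ :=
        CfsgLib.LocalEvenCharP.exists_mem_normalizer_not_mem hWp le_sup_right hne
      refine hyV (hWM ⟨hy, ?_⟩)
      show (y : G) ∈ P
      rw [← f.normEq]
      rw [Subgroup.mem_normalizer_iff]
      intro u
      constructor
      · intro hu
        exact (Subgroup.mem_normalizer_iff.1 hyn ⟨u, hVH hu⟩).1 hu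
      · intro hu
        have huH : u ∈ H := by
          have := hHn.conj_mem _ (hVH hu) (y : G)⁻¹
          simpa [mul_assoc] using this
        exact (Subgroup.mem_normalizer_iff.1 hyn ⟨u, huH⟩).2 hu
    have hXV : X ≤ Vh := hWeq.symm ▸ (le_sup_left : X ≤ W)
    obtain ⟨x, hx, hx1⟩ := (Subgroup.bot_or_exists_ne_one X).resolve_left hX1
    have hXeq : X = Vh := by
      refine le_antisymm hXV fun y hy => ?_
      by_cases hy1 : y = 1
      · rw [hy1]; exact one_mem _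
      obtain ⟨p, hp, hpo, hpe⟩ := f.trans (x : G) (hXV hx) (y : G) hy
        (fun e => hx1 (Subtype.ext e)) (fun e => hy1 (Subtype.ext e))
      have := (Subgroup.mem_normalizer_iff.1
        (hMN (show (⟨p, hH p hpo⟩ : ↥H) ∈ M from hp)) x).1 hx
      have e : (⟨p, hH p hpo⟩ : ↥H) * x * (⟨p, hH p hpo⟩ : ↥H)⁻¹ = y := Subtype.ext (by simpa using hpe)
      rwa [e] at this
    intro y hy
    show (y : G) ∈ P
    rw [hXeq] at hy
    rw [← f.normEq, Subgroup.mem_normalizer_iff]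
    intro u
    constructor
    · intro hu
      exact (Subgroup.mem_normalizer_iff.1 hy ⟨u, hVH hu⟩).1 hu
    · intro hu
      have huH : u ∈ H := by
        have := hHn.conj_mem _ (hVH hu) (y : G)⁻¹
        simpa [mul_assoc] using this
      exact (Subgroup.mem_normalizer_iff.1 hy ⟨u, huH⟩).2 hu

/-- The conclusion from the two subgroups. -/
theorem conclude {H P₁ P₂ T V₁ V₂ A₁ A₂ D : Subgroup G} [H.Normal]
    (hH : ∀ g : G, Odd (orderOf g) → g ∈ H) (f₁ : Four P₁ T V₁ A₁) (f₂ : Four P₂ T V₂ A₂)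
    (hne : P₁ ≠ P₂)
    (h₁ : Nat.card P₁ = 24 * Nat.card A₁) (h₂ : Nat.card P₂ = 24 * Nat.card A₂)
    (hA₁ : A₁ ⊓ H = ⊥) (hA₂ : A₂ ⊓ H = ⊥) (hDT : D ≤ T) (hDH : D ≤ H) (hD : Nat.card D = 8) :
    ∃ M₁ M₂ : Subgroup H, M₁ ≠ M₂ ∧ Cfsg.IsMaximalTwoLocal M₁ ∧ Cfsg.IsMaximalTwoLocal M₂ ∧
      Nonempty (M₁ ≃* Equiv.Perm (Fin 4)) ∧ Nonempty (M₂ ≃* Equiv.Perm (Fin 4)) ∧
      Nat.card ↥(M₁ ⊓ M₂) = 8 := by
  obtain ⟨hV₁, c₁, hD₁, e₁, m₁⟩ := inside hH f₁ h₁ hA₁ hDT hDH hD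
  obtain ⟨hV₂, c₂, hD₂, e₂, m₂⟩ := inside hH f₂ h₂ hA₂ hDT hDH hD
  have hV₁ne : V₁ ≠ V₂ := fun e => hne (by rw [← f₁.normEq, ← f₂.normEq, e])
  have hne' : P₁.subgroupOf H ≠ P₂.subgroupOf H := by
    intro e
    have e' : ∀ x ∈ H, x ∈ P₁ ↔ x ∈ P₂ := fun x hx => SetLike.ext_iff.1 e ⟨x, hx⟩
    have hodd : ∀ x ∈ P₁, Odd (orderOf x) → x ∈ P₂ := fun x hx ho => (e' x (hH x ho)).1 hx
    have hodd' : ∀ x ∈ P₂, Odd (orderOf x) → x ∈ P₁ := fun x hx ho => (e' x (hH x ho)).2 hx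
    have hle : oddPart P₁ = oddPart P₂ := by
      unfold oddPart
      congr 1
      ext g
      exact ⟨fun hg => ⟨hodd g hg.1 hg.2, hg.2⟩, fun hg => ⟨hodd' g hg.1 hg.2, hg.2⟩⟩
    exact hV₁ne (le_antisymm (fun x hx => f₂.res x (f₁.le hx) (hle ▸ f₁.le_odd hx))
      (fun x hx => f₁.res x (f₂.le hx) (hle ▸ f₂.le_odd hx)))
  refine ⟨_, _, hne', m₁, m₂, e₁, e₂, ?_⟩
  set M := P₁.subgroupOf H ⊓ P₂.subgroupOf H
  have h8 : 8 ∣ Nat.card M := by
    have h1 : D.subgroupOf H ≤ M := fun x hx => ⟨hD₁ hx, hD₂ hx⟩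
    have := Subgroup.card_dvd_of_le h1
    rwa [Nat.card_congr (Subgroup.subgroupOfEquivOfLe hDH).toEquiv, hD] at this
  have h24 : Nat.card M ∣ 24 := c₁ ▸ Subgroup.card_dvd_of_le inf_le_left
  obtain ⟨k, hk⟩ := h8
  rw [hk] at h24
  have hk3 : k ∣ 3 := Nat.dvd_of_mul_dvd_mul_left (show 0 < 8 by norm_num) (by simpa using h24)
  rcases (Nat.dvd_prime Nat.prime_three).1 hk3 with rfl | rfl
  · simpa using hk
  · exfalso
    have e1 : M = P₁.subgroupOf H :=
      Subgroup.eq_of_le_of_card_ge inf_le_left (by rw [c₁, hk])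
    have e2 : M = P₂.subgroupOf H :=
      Subgroup.eq_of_le_of_card_ge inf_le_right (by rw [c₂, hk])
    exact hne' (e1.symm.trans e2)

/-- The theorem. -/
theorem main (hL : Cfsg.IsCharacteristicTwoType G) (hO : Cfsg.pCore 2 G = ⊥)
    (hN : ∀ N : Subgroup G, Cfsg.IsTwoLocal N → Group.IsSolvable N)
    (hZ : ∀ S : Sylow 2 G,
      Subgroup.centralizer {z : G | z ∈ (S : Subgroup G) ∧ z ^ 2 = 1 ∧ ∀ s ∈ (S : Subgroup G), s * z = z * s} ≤
        Subgroup.normalizer ((S : Subgroup G) : Set G))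
    (H : Subgroup G) (hH : H = Subgroup.closure {g : G | Odd (orderOf g)}) :
    (∃ K : Subgroup G, Cfsg.IsStronglyEmbedded K) ∨
      ∃ M₁ M₂ : Subgroup H, M₁ ≠ M₂ ∧ Cfsg.IsMaximalTwoLocal M₁ ∧ Cfsg.IsMaximalTwoLocal M₂ ∧
        Nonempty (M₁ ≃* Equiv.Perm (Fin 4)) ∧ Nonempty (M₂ ≃* Equiv.Perm (Fin 4)) ∧
        Nat.card ↥(M₁ ⊓ M₂) = 8 := by
  classical
  have hZ' : ∀ S : Sylow 2 G, Subgroup.centralizer (Cfsg.omegaCenterOf (S : Subgroup G) : Set G) ≤
      Subgroup.normalizer ((S : Subgroup G) : Set G) := fun S =>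
    le_trans (Subgroup.centralizer_le fun x hx =>
      CfsgLib.JComp.mem_omegaCenterOf hx.1 (by simpa [pow_two] using hx.2.1)
        (fun y hy => hx.2.2 y hy)) (hZ S)
  haveI : Fact (Nat.Prime 2) := ⟨Nat.prime_two⟩
  obtain ⟨S⟩ : Nonempty (Sylow 2 G) := inferInstance
  have hSp : IsPGroup 2 (S : Subgroup G) := S.isPGroup'
  have hS1 : (S : Subgroup G) ≠ ⊥ := fun e => by
    have := S.not_dvd_index
    rw [e, Subgroup.index_bot] at this
    exact this (even_iff_two_dvd.1 hL.1)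
  set M := Subgroup.normalizer (Cfsg.thompsonSubgroupOf 2 (S : Subgroup G) : Set G)
  have hM : Cfsg.IsTwoLocal M :=
    ⟨_, hSp.to_le (CfsgLib.JComp.jOf_le _), CfsgLib.JComp.jOf_ne_bot hSp hS1, rfl⟩
  rcases Set.eq_empty_or_nonempty (Cfsg.straddlingTwoSubgroups M) with he | hne
  · exact Or.inl ⟨M, (Cfsg.Agent.S2947.result hL hN hZ' hO S M hM le_rfl).2 he⟩
  obtain ⟨T, hT⟩ := CfsgLib.JComp.exists_maxStraddling hne
  obtain ⟨P₁, P₂, hP, hP₁, hP₂, hT₁, hT₂, hiso⟩ :=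
    Cfsg.Agent.S2954.result hL hN hZ' hO S M hM le_rfl T hT
  have hodd : ∀ g : G, Odd (orderOf g) → g ∈ H := fun g hg =>
    hH ▸ Subgroup.subset_closure hg
  haveI hHn : H.Normal := by
    rw [hH, ← Subgroup.normalizer_eq_top_iff, eq_top_iff]
    intro g _
    rw [Subgroup.mem_normalizer_iff_map_conj_eq, MonoidHom.map_closure]
    congr 1
    ext x
    constructor
    · rintro ⟨y, hy, rfl⟩
      show Odd (orderOf (MulAut.conj g y))
      rw [MulEquiv.orderOf_eq]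
      exact hy
    · intro hx
      refine ⟨g⁻¹ * x * g, ?_, by simp [mul_assoc]⟩
      show Odd (orderOf (g⁻¹ * x * g))
      have : g⁻¹ * x * g = MulAut.conj g⁻¹ x := by simp
      rw [this, MulEquiv.orderOf_eq]
      exact hx
  refine Or.inr ?_
  have hV : ∀ {P V A : Subgroup G}, Four P T V A → V ≤ H := fun f =>
    f.le_odd.trans ((Subgroup.closure_le _).2 fun g hg => hodd g hg.2)
  rcases hiso with ⟨⟨e₁⟩, ⟨e₂⟩⟩ | ⟨⟨e₁⟩, ⟨e₂⟩⟩
  · obtain ⟨V₁, A₁, f₁, a₁, c₁⟩ := exists_four (C := PUnit) (fun _ => rfl)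
      (e₁.trans MulEquiv.prodUnique.symm) hP₁ hT₁
    obtain ⟨V₂, A₂, f₂, a₂, c₂⟩ := exists_four (C := PUnit) (fun _ => rfl)
      (e₂.trans MulEquiv.prodUnique.symm) hP₂ hT₂
    have hu : Nat.card PUnit.{1} = 1 := Nat.card_unique
    rw [hu, mul_one] at c₁ c₂
    rw [hu] at a₁ a₂
    have hb₁ : A₁ = ⊥ := Subgroup.card_eq_one.1 a₁
    have hb₂ : A₂ = ⊥ := Subgroup.card_eq_one.1 a₂
    have hne : V₁ ≠ V₂ := fun e => hP (by rw [← f₁.normEq, ← f₂.normEq, e])
    have hle : V₁ ⊔ V₂ ≤ T := sup_le f₁.le f₂.le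
    have hTd : Nat.card T ∣ 8 := by
      have h1 : Nat.card T ∣ 24 := c₁ ▸ Subgroup.card_dvd_of_le hT₁.1
      obtain ⟨n, hn⟩ := IsPGroup.iff_card.1 hT₁.2.1
      rw [hn] at h1 ⊢
      have : (2 ^ n).Coprime 3 := (Nat.Coprime.pow_left n (by norm_num))
      exact this.dvd_of_dvd_mul_right (show 2 ^ n ∣ 8 * 3 from h1)
    have h8 : Nat.card ↥(V₁ ⊔ V₂) = 8 := by
      have h1 : Nat.card ↥(V₁ ⊔ V₂) ∣ 8 := (Subgroup.card_dvd_of_le hle).trans hTd
      have h4 : 4 < Nat.card ↥(V₁ ⊔ V₂) := by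
        refine lt_of_le_of_ne (f₁.card ▸ Subgroup.card_le_of_le le_sup_left) fun e => hne ?_
        exact (Subgroup.eq_of_le_of_card_ge (le_sup_left : V₁ ≤ V₁ ⊔ V₂)
          (by rw [← e, f₁.card])).trans (Subgroup.eq_of_le_of_card_ge
            (le_sup_right : V₂ ≤ V₁ ⊔ V₂) (by rw [← e, f₂.card])).symm
      have h5 : Nat.card ↥(V₁ ⊔ V₂) ∈ Nat.divisors 8 := Nat.mem_divisors.2 ⟨h1, by norm_num⟩
      rw [show Nat.divisors 8 = {1, 2, 4, 8} from by decide] at h5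
      simp only [Finset.mem_insert, Finset.mem_singleton] at h5
      omega
    exact conclude hodd f₁ f₂ hP (by rw [a₁, mul_one, c₁]) (by rw [a₂, mul_one, c₂])
      (by rw [hb₁, bot_inf_eq]) (by rw [hb₂, bot_inf_eq]) hle (sup_le (hV f₁) (hV f₂)) h8
  · have hc : ∀ c : Multiplicative (ZMod 2), c * c = 1 := mulZMod2_sq
    obtain ⟨V₁, A₁, f₁, a₁, c₁⟩ := exists_four hc e₁ hP₁ hT₁
    obtain ⟨V₂, A₂, f₂, a₂, c₂⟩ := exists_four hc e₂ hP₂ hT₂
    have hcard : Nat.card (Multiplicative (ZMod 2)) = 2 := by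
      rw [Nat.card_eq_fintype_card]; rfl
    rw [hcard] at a₁ a₂ c₁ c₂
    have hgen : ∀ {A : Subgroup G}, Nat.card A = 2 → ∃ a, a ≠ 1 ∧ ∀ x, x ∈ A ↔ x = 1 ∨ x = a := by
      intro A hA
      obtain ⟨⟨a, ha⟩, ha1, hu⟩ := (Nat.card_eq_two_iff' (1 : A)).1 hA
      refine ⟨a, fun e => ha1 (Subtype.ext e), fun x => ⟨fun hx => ?_, ?_⟩⟩
      · exact (em (x = 1)).imp id fun hx1 =>
          congrArg Subtype.val (hu ⟨x, hx⟩ fun e => hx1 (congrArg Subtype.val e))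
      · rintro (rfl | rfl)
        exacts [one_mem _, ha]
    obtain ⟨a, ha1, hA₁⟩ := hgen a₁
    obtain ⟨b, hb1, hA₂⟩ := hgen a₂
    have hT16 : Nat.card T = 16 := by
      obtain ⟨n, hn⟩ := IsPGroup.iff_card.1 hT₁.2.1
      have h1 := Subgroup.card_mul_index (T.subgroupOf P₁)
      rw [Nat.card_congr (Subgroup.subgroupOfEquivOfLe hT₁.1).toEquiv, c₁, hn] at h1
      have h2 : Odd (T.subgroupOf P₁).index := hT₁.2.2
      obtain ⟨q, hq⟩ := h2
      rw [hq] at h1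
      have hn5 : n ≤ 5 := by
        by_contra hcon
        have := Nat.pow_le_pow_right (show 2 > 0 by norm_num) (show 6 ≤ n by omega)
        nlinarith
      rw [hn]
      interval_cases n <;> omega
    have h₂ : Two P₁ P₂ T V₁ V₂ A₁ A₂ a b := ⟨f₁, f₂, hP, c₁, hT16, hA₁, hA₂, ha1, hb1⟩
    obtain ⟨v, hv, w, hw, hvw⟩ := h₂.exists_noncomm
    have hF : Frame₂ P₁ P₂ T V₁ V₂ A₁ A₂ a b v w (v * w * (v * w)) :=
      { h₂ with hv := hv, hw := hw, hne := hvw, hz := rfl }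
    have haH : a ∉ H := hH ▸ hF.a_notMem_odd hZ
    have hbH : b ∉ H := by
      intro hb
      refine haH ?_
      have hz : v * w * (v * w) ∈ H := hV f₁ hF.z_mem₁
      have := H.mul_mem hz hb
      rwa [hF.b_eq, ← mul_assoc, f₁.sq _ hF.z_mem₁, one_mul] at this
    have hbot : ∀ {A : Subgroup G} {c : G}, (∀ x, x ∈ A ↔ x = 1 ∨ x = c) → c ∉ H →
        A ⊓ H = ⊥ := by
      intro A c hA hc
      refine (Subgroup.eq_bot_iff_forall _).2 fun x hx => ?_
      rcases (hA x).1 hx.1 with e | e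
      · exact e
      · exact absurd (e ▸ hx.2) hc
    exact conclude hodd f₁ f₂ hP (by rw [a₁, c₁]) (by rw [a₂, c₂]) (hbot hA₁ haH) (hbot hA₂ hbH)
      hF.D_le (sup_le (hV f₁) (hV f₂)) hF.card_D

end CfsgLib.ZNStructure
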