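import Cfsg.Agent.Lib.ZNStructure.Shape
import Cfsg.Agent.Lib.LocalEven.JComp.Basic
import Cfsg.Agent.Lib.Transfer.Basic

/-!
Two maximal 2-local subgroups `≅ S₄ × C₂` with a common Sylow 2-subgroup `T`: the central
involution `a` of the first lies outside `O²(G)`.
-/

set_option autoImplicit false

open Cfsg

namespace CfsgLib.ZNStructure

variable {G : Type*} [Group G] [Finite G]

/-- A subgroup of a group of order 4 containing two distinct nontrivial elements is everything. -/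
theorem four_le {V W : Subgroup G} (hV : Nat.card V = 4) {u v : G} (hu : u ∈ V) (hv : v ∈ V)
    (huW : u ∈ W) (hvW : v ∈ W) (hu1 : u ≠ 1) (hv1 : v ≠ 1) (huv : u ≠ v) : V ≤ W := by
  have hd : Nat.card ↥(V ⊓ W) ∣ 4 := hV ▸ Subgroup.card_dvd_of_le inf_le_left
  have h3 : 2 < Nat.card ↥(V ⊓ W) := by
    show 2 < Nat.card ((V ⊓ W : Subgroup G) : Set G)
    rw [Nat.card_coe_set_eq]
    calc 2 < ({1, u, v} : Set G).ncard := by
          rw [Set.ncard_insert_of_notMem (by simp [hu1.symm, hv1.symm]), Set.ncard_pair huv]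
          norm_num
      _ ≤ _ := Set.ncard_le_ncard (by
          rintro x (rfl | rfl | rfl)
          exacts [one_mem _, ⟨hu, huW⟩, ⟨hv, hvW⟩])
  have h4 : Nat.card ↥(V ⊓ W) = 4 := by
    have := Nat.le_of_dvd (by norm_num) hd
    rcases show Nat.card ↥(V ⊓ W) = 3 ∨ Nat.card ↥(V ⊓ W) = 4 by omega with h | h
    · rw [h] at hd; norm_num at hd
    · exact h
  exact (inf_eq_left.1 (Subgroup.eq_of_le_of_card_ge inf_le_left (by rw [h4, hV])))

theorem Four.comm {P T V A : Subgroup G} (h : Four P T V A) {u v : G} (hu : u ∈ V) (hv : v ∈ V) :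
    u * v = v * u :=
  mul_eq_comm_of_sq (h.sq u hu) (h.sq v hv) (h.sq _ (V.mul_mem hu hv))
where
  mul_eq_comm_of_sq {u v : G} (hu : u * u = 1) (hv : v * v = 1) (h : u * v * (u * v) = 1) :
      u * v = v * u := by
    calc u * v = (u * v * (u * v)) * (v⁻¹ * u⁻¹) := by simp [mul_assoc]
      _ = v⁻¹ * u⁻¹ := by rw [h, one_mul]
      _ = v * u := by rw [inv_eq_of_mul_eq_one_left hu, inv_eq_of_mul_eq_one_left hv]

variable {P₁ P₂ T V₁ V₂ A₁ A₂ : Subgroup G}

/-- The configuration. -/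
structure Two (P₁ P₂ T V₁ V₂ A₁ A₂ : Subgroup G) (a b : G) : Prop where
  f₁ : Four P₁ T V₁ A₁
  f₂ : Four P₂ T V₂ A₂
  ne : P₁ ≠ P₂
  card₁ : Nat.card P₁ = 48
  cardT : Nat.card T = 16
  hA₁ : ∀ x, x ∈ A₁ ↔ x = 1 ∨ x = a
  hA₂ : ∀ x, x ∈ A₂ ↔ x = 1 ∨ x = b
  a_ne : a ≠ 1
  b_ne : b ≠ 1

namespace Two

variable {a b : G} (h : Two P₁ P₂ T V₁ V₂ A₁ A₂ a b)
include h

theorem a_mem : a ∈ A₁ := (h.hA₁ a).2 (Or.inr rfl)
theorem b_mem : b ∈ A₂ := (h.hA₂ b).2 (Or.inr rfl)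
theorem a_memT : a ∈ T := h.f₁.A_le h.a_mem
theorem b_memT : b ∈ T := h.f₂.A_le h.b_mem

theorem T_le₁ : T ≤ P₁ := h.f₁.syl.1
theorem T_le₂ : T ≤ P₂ := h.f₂.syl.1

theorem a_cent {t : G} (ht : t ∈ T) : a * t = t * a := h.f₁.A_cent a h.a_mem t (h.T_le₁ ht)
theorem b_cent {t : G} (ht : t ∈ T) : b * t = t * b := h.f₂.A_cent b h.b_mem t (h.T_le₂ ht)

theorem a_sq : a * a = 1 := by
  rcases (h.hA₁ _).1 (A₁.mul_mem h.a_mem h.a_mem) with e | e
  · exact e
  · exact absurd (mul_eq_right.1 e) h.a_ne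

theorem a_notMem : a ∉ V₁ := fun hv => h.a_ne (h.f₁.A_inf a hv h.a_mem)

theorem b_notMem : b ∉ V₂ := fun hv => h.b_ne (h.f₂.A_inf b hv h.b_mem)

theorem ext_of_cent (X : Subgroup G) {x : G} (hx : x ∈ X) (hx1 : x ≠ 1) (hX : IsPGroup 2 X)
    (hn₁ : P₁ ≤ Subgroup.normalizer (X : Set G)) (hn₂ : P₂ ≤ Subgroup.normalizer (X : Set G)) :
    False := by
  have hX1 : X ≠ ⊥ := fun e => hx1 (by rwa [e, Subgroup.mem_bot] at hx)
  exact h.ne ((normalizer_eq h.f₁.maxl hX hX1 hn₁).symm.trans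
    (normalizer_eq h.f₂.maxl hX hX1 hn₂))

/-- The centralizer of `a` is `P₁`. -/
theorem cent_a {g : G} (hg : g * a = a * g) : g ∈ P₁ := by
  have hA : IsPGroup 2 A₁ := h.f₁.syl.2.1.to_le h.f₁.A_le
  have hA1 : A₁ ≠ ⊥ := fun e => h.a_ne (by simpa [e] using h.a_mem)
  rw [← normalizer_eq h.f₁.maxl hA hA1 ?_]
  · rw [Subgroup.mem_normalizer_iff]
    intro x
    simp only [h.hA₁]
    constructor
    · rintro (rfl | rfl) <;> simp [hg]
    · rintro (e | e)
      · exact Or.inl (conj_eq_one_iff.1 e)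
      · refine Or.inr ?_
        have e1 := congrArg (fun y => g⁻¹ * y * g) e
        simp only [mul_assoc, inv_mul_cancel_left, inv_mul_cancel, mul_one] at e1
        rw [e1, ← hg, inv_mul_cancel_left]
  · intro p hp
    rw [Subgroup.mem_normalizer_iff]
    intro x
    constructor
    · intro hx
      rw [← h.f₁.A_cent x hx p hp, mul_inv_cancel_right]
      exact hx
    · intro hx
      have e := h.f₁.A_cent _ hx p⁻¹ (P₁.inv_mem hp)
      have e1 : p * x * p⁻¹ = x := by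
        have := congrArg (fun y => p * y * p) e
        simpa [mul_assoc] using this
      rwa [e1] at hx

theorem a_ne_b : a ≠ b := by
  intro e
  have h2 : P₂ ≤ P₁ := fun g hg => h.cent_a (by
    rw [e]; exact (h.f₂.A_cent b h.b_mem g hg).symm)
  exact h.ne (h.f₂.maxl.2 P₁ h.f₁.maxl.1 h2)

theorem V_ne : V₁ ≠ V₂ := fun e => h.ne (by
  rw [← h.f₁.normEq, ← h.f₂.normEq, e])

theorem inter_lt {x : G} (hx : x ∈ V₁) (hx2 : x ∈ V₂) {y : G} (hy : y ∈ V₁) (hy2 : y ∈ V₂)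
    (hx1 : x ≠ 1) (hy1 : y ≠ 1) : x = y := by
  by_contra hne
  exact h.V_ne (Subgroup.eq_of_le_of_card_ge (four_le h.f₁.card hx hy hx2 hy2 hx1 hy1 hne)
    (by rw [h.f₁.card, h.f₂.card]))

theorem norm₁ {t : G} (ht : t ∈ T) : t ∈ Subgroup.normalizer (V₁ : Set G) := h.f₁.norm (h.T_le₁ ht)
theorem norm₂ {t : G} (ht : t ∈ T) : t ∈ Subgroup.normalizer (V₂ : Set G) := h.f₂.norm (h.T_le₂ ht)

/-- `V₂` does not centralize `V₁`. -/
theorem exists_noncomm : ∃ v ∈ V₁, ∃ w ∈ V₂, v * w ≠ w * v := by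
  by_contra hcon
  push Not at hcon
  set E := V₁ ⊔ V₂ with hE
  have hEle : E ≤ T := sup_le h.f₁.le h.f₂.le
  have key : ∀ {P P' W W' A : Subgroup G}, Four P T W A →
      W' ≤ T → (∀ v ∈ W, ∀ w ∈ W', v * w = w * v) → Nat.card A = 2 → ¬ W' ≤ W →
      P ≤ Subgroup.normalizer ((W ⊔ W' : Subgroup G) : Set G) := by
    intro P _ W W' A f hW' hc hA hne
    have hAW : A ≤ Subgroup.centralizer (W : Set G) := fun x hx =>
      Subgroup.mem_centralizer_iff.2 fun y hy => (f.A_cent x hx y (f.syl.1 (f.le hy))).symm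
    have hsub : W' ≤ W ⊔ A := fun w hw => by
      obtain ⟨v, hv, x, hx, rfl⟩ := f.cent w (f.syl.1 (hW' hw)) fun v hv => (hc v hv w hw).symm
      exact Subgroup.mul_mem_sup hv hx
    obtain ⟨w, hw, hwW⟩ := SetLike.not_le_iff_exists.1 hne
    obtain ⟨v, hv, x, hx, rfl⟩ := f.cent w (f.syl.1 (hW' hw)) fun v hv => (hc v hv w hw).symm
    have hx1 : x ≠ 1 := fun e => hwW (by rw [e, mul_one]; exact hv)
    have hxs : x ∈ W ⊔ W' := by
      have := Subgroup.mul_mem _ (Subgroup.inv_mem _ (Subgroup.mem_sup_left (T := W') hv))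
        (Subgroup.mem_sup_right (S := W) hw)
      rwa [inv_mul_cancel_left] at this
    have hAs : A ≤ W ⊔ W' := by
      obtain ⟨⟨c, hc'⟩, hc1, huniq⟩ := (Nat.card_eq_two_iff' (1 : A)).1 hA
      intro y hy
      by_cases hy1 : y = 1
      · rw [hy1]; exact one_mem _
      · have e1 := huniq ⟨y, hy⟩ (fun e => hy1 (congrArg Subtype.val e))
        have e2 := huniq ⟨x, hx⟩ (fun e => hx1 (congrArg Subtype.val e))
        rw [show y = x from congrArg Subtype.val (e1.trans e2.symm)]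
        exact hxs
    have e : W ⊔ W' = W ⊔ A := le_antisymm (sup_le le_sup_left hsub) (sup_le le_sup_left hAs)
    rw [e]
    intro p hp
    have hpA : p ∈ Subgroup.normalizer (A : Set G) := by
      rw [Subgroup.mem_normalizer_iff_map_conj_eq]
      ext y
      constructor
      · rintro ⟨u, hu, rfl⟩
        show p * u * p⁻¹ ∈ A
        rw [← f.A_cent u hu p hp, mul_inv_cancel_right]; exact hu
      · intro hy
        exact ⟨y, hy, by show p * y * p⁻¹ = y; rw [← f.A_cent y hy p hp, mul_inv_cancel_right]⟩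
    rw [Subgroup.mem_normalizer_iff_map_conj_eq, Subgroup.map_sup,
      Subgroup.mem_normalizer_iff_map_conj_eq.1 (f.norm hp),
      Subgroup.mem_normalizer_iff_map_conj_eq.1 hpA]
  have hA₁ : Nat.card A₁ = 2 := card_two (h.hA₁) h.a_ne
  have hA₂ : Nat.card A₂ = 2 := card_two (h.hA₂) h.b_ne
  have h12 : ¬ V₂ ≤ V₁ := fun e => h.V_ne
    (Subgroup.eq_of_le_of_card_ge e (by rw [h.f₁.card, h.f₂.card])).symm
  have h21 : ¬ V₁ ≤ V₂ := fun e => h.V_ne
    (Subgroup.eq_of_le_of_card_ge e (by rw [h.f₁.card, h.f₂.card]))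
  obtain ⟨v, hv, hv1⟩ := SetLike.not_le_iff_exists.1 h21
  refine h.ext_of_cent E (Subgroup.mem_sup_left hv) (fun e => hv1 (e ▸ one_mem _))
    (h.f₁.syl.2.1.to_le hEle) (key (P' := P₂) h.f₁ h.f₂.le hcon hA₁ h12) ?_
  rw [hE, sup_comm]
  exact key (P' := P₁) h.f₂ h.f₁.le (fun v hv w hw => (hcon w hw v hv).symm) hA₂ h21
where
  card_two {A : Subgroup G} {a : G} (hA : ∀ x, x ∈ A ↔ x = 1 ∨ x = a) (ha : a ≠ 1) :
      Nat.card A = 2 := by
    have e : (A : Set G) = {1, a} := Set.ext fun x => by simp [hA]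
    show Nat.card ((A : Set G) : Type _) = 2
    rw [Nat.card_coe_set_eq, e, Set.ncard_pair ha.symm]

end Two

/-- The configuration with the noncommuting elements `v ∈ V₁`, `w ∈ V₂` and `z = (vw)²`. -/
structure Frame₂ (P₁ P₂ T V₁ V₂ A₁ A₂ : Subgroup G) (a b v w z : G) : Prop
    extends Two P₁ P₂ T V₁ V₂ A₁ A₂ a b where
  hv : v ∈ V₁
  hw : w ∈ V₂
  hne : v * w ≠ w * v
  hz : z = v * w * (v * w)

namespace Frame₂

variable {a b v w z : G} (h : Frame₂ P₁ P₂ T V₁ V₂ A₁ A₂ a b v w z)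
include h

theorem vwT : v * w ∈ T := T.mul_mem (h.f₁.le h.hv) (h.f₂.le h.hw)

theorem z_ne : z ≠ 1 := fun e => h.hne
  (Four.comm.mul_eq_comm_of_sq (h.f₁.sq v h.hv) (h.f₂.sq w h.hw) (h.hz ▸ e))

theorem z_mem₁ : z ∈ V₁ := by
  have e : z = v * (w * v * w⁻¹) := by
    rw [h.hz, inv_eq_of_mul_eq_one_left (h.f₂.sq w h.hw)]; group
  rw [e]
  exact V₁.mul_mem h.hv
    ((Subgroup.mem_normalizer_iff.1 (h.norm₁ (h.f₂.le h.hw)) v).1 h.hv)

theorem z_mem₂ : z ∈ V₂ := by
  have e : z = v * w * v⁻¹ * w := by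
    rw [h.hz, inv_eq_of_mul_eq_one_left (h.f₁.sq v h.hv)]; group
  rw [e]
  exact V₂.mul_mem ((Subgroup.mem_normalizer_iff.1 (h.norm₂ (h.f₁.le h.hv)) w).1 h.hw) h.hw

theorem inter {x : G} (hx : x ∈ V₁) (hx2 : x ∈ V₂) : x = 1 ∨ x = z :=
  (em (x = 1)).imp id fun hx1 => h.inter_lt hx hx2 h.z_mem₁ h.z_mem₂ hx1 h.z_ne

theorem v_ne : v ≠ 1 := fun e => h.hne (by simp [e])
theorem v_ne_z : v ≠ z := fun e => h.hne (h.f₂.comm (e ▸ h.z_mem₂) h.hw)
theorem w_ne : w ≠ 1 := fun e => h.hne (by simp [e])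
theorem w_ne_z : w ≠ z := fun e => h.hne (h.f₁.comm h.hv (e ▸ h.z_mem₁))

theorem z_comm₁ {u : G} (hu : u ∈ V₁) : z * u = u * z := h.f₁.comm h.z_mem₁ hu
theorem z_comm₂ {u : G} (hu : u ∈ V₂) : z * u = u * z := h.f₂.comm h.z_mem₂ hu

/-- An element of `V₂` commuting with an element of `V₁` outside `⟨z⟩` is in `⟨z⟩`. -/
theorem comm_cross {x y : G} (hx : x ∈ V₁) (hy : y ∈ V₂) (hc : x * y = y * x) :
    (x = 1 ∨ x = z) ∨ (y = 1 ∨ y = z) := by
  by_contra hcon
  push Not at hcon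
  obtain ⟨⟨hx1, hxz⟩, hy1, hyz⟩ := hcon
  have h1 : V₁ ≤ Subgroup.centralizer ({y} : Set G) :=
    four_le h.f₁.card hx h.z_mem₁ (Subgroup.mem_centralizer_singleton_iff.2 hc)
      (Subgroup.mem_centralizer_singleton_iff.2 (h.z_comm₂ hy)) hx1 h.z_ne hxz
  have hvy : v * y = y * v := Subgroup.mem_centralizer_singleton_iff.1 (h1 h.hv)
  have h2 : V₂ ≤ Subgroup.centralizer ({v} : Set G) :=
    four_le h.f₂.card hy h.z_mem₂ (Subgroup.mem_centralizer_singleton_iff.2 hvy.symm)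
      (Subgroup.mem_centralizer_singleton_iff.2 (h.z_comm₁ h.hv)) hy1 h.z_ne hyz
  exact h.hne (Subgroup.mem_centralizer_singleton_iff.1 (h2 h.hw)).symm

theorem mem_D {d : G} (hd : d ∈ V₁ ⊔ V₂) : ∃ x ∈ V₁, ∃ y ∈ V₂, d = x * y := by
  have hn : V₂ ≤ Subgroup.normalizer (V₁ : Set G) := fun y hy => h.norm₁ (h.f₂.le hy)
  rw [← SetLike.mem_coe, Subgroup.coe_mul_of_right_le_normalizer_left V₁ V₂ hn] at hd
  obtain ⟨x, hx, y, hy, rfl⟩ := hd
  exact ⟨x, hx, y, hy, rfl⟩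

theorem sq_prod {x y : G} (hx : x ∈ V₁) (hy : y ∈ V₂) :
    x * y * (x * y) = 1 ∨ x * y * (x * y) = z := by
  refine h.inter ?_ ?_
  · have e : x * y * (x * y) = x * (y * x * y⁻¹) := by
      rw [inv_eq_of_mul_eq_one_left (h.f₂.sq y hy)]; group
    rw [e]
    exact V₁.mul_mem hx ((Subgroup.mem_normalizer_iff.1 (h.norm₁ (h.f₂.le hy)) x).1 hx)
  · have e : x * y * (x * y) = x * y * x⁻¹ * y := by
      rw [inv_eq_of_mul_eq_one_left (h.f₁.sq x hx)]; group
    rw [e]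
    exact V₂.mul_mem ((Subgroup.mem_normalizer_iff.1 (h.norm₂ (h.f₁.le hx)) y).1 hy) hy

/-- An involution of `D` lies in `V₁` or `V₂`. -/
theorem invol_D {d : G} (hd : d ∈ V₁ ⊔ V₂) (h2 : d * d = 1) : d ∈ V₁ ∨ d ∈ V₂ := by
  obtain ⟨x, hx, y, hy, rfl⟩ := h.mem_D hd
  rcases h.comm_cross hx hy
    (Four.comm.mul_eq_comm_of_sq (h.f₁.sq x hx) (h.f₂.sq y hy) h2) with (e | e) | e | e
  · exact Or.inr (by rw [e, one_mul]; exact hy)
  · exact Or.inr (V₂.mul_mem (e ▸ h.z_mem₂) hy)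
  · exact Or.inl (by rw [e, mul_one]; exact hx)
  · exact Or.inl (V₁.mul_mem hx (e ▸ h.z_mem₁))

/-- An element of `D` centralizing `D` is in `⟨z⟩`. -/
theorem center_D {d : G} (hd : d ∈ V₁ ⊔ V₂) (h1 : d * v = v * d) (h2 : d * w = w * d) :
    d = 1 ∨ d = z := by
  obtain ⟨x, hx, y, hy, rfl⟩ := h.mem_D hd
  have hyv : v * y = y * v := by
    have e : x * (y * v) = x * (v * y) := by
      rw [← mul_assoc, h1, ← mul_assoc v, h.f₁.comm h.hv hx, mul_assoc]
    exact (mul_left_cancel e).symm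
  have hdV : x * y ∈ V₁ := by
    rcases h.comm_cross h.hv hy hyv with (e | e) | e | e
    · exact absurd e h.v_ne
    · exact absurd e h.v_ne_z
    · rw [e, mul_one]; exact hx
    · exact V₁.mul_mem hx (e ▸ h.z_mem₁)
  rcases h.comm_cross hdV h.hw h2 with e | e | e
  · exact e
  · exact absurd e h.w_ne
  · exact absurd e h.w_ne_z

theorem D_le : V₁ ⊔ V₂ ≤ T := sup_le h.f₁.le h.f₂.le

theorem a_notD : a ∉ V₁ ⊔ V₂ := fun ha => by
  rcases h.center_D ha (h.a_cent (h.f₁.le h.hv)) (h.a_cent (h.f₂.le h.hw)) with e | e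
  · exact h.a_ne e
  · exact h.a_notMem (e ▸ h.z_mem₁)

theorem card_D : Nat.card ↥(V₁ ⊔ V₂) = 8 := by
  have h1 : Nat.card ↥(V₁ ⊔ V₂) ∣ 16 := h.cardT ▸ Subgroup.card_dvd_of_le h.D_le
  have h2 : Nat.card ↥(V₁ ⊔ V₂) ≠ 16 := fun e =>
    h.a_notD ((Subgroup.eq_of_le_of_card_ge h.D_le (by rw [e, h.cardT])).ge h.a_memT)
  have h3 : Nat.card ↥(V₁ ⊔ V₂) ≠ 4 := fun e => h.V_ne (by
    exact (Subgroup.eq_of_le_of_card_ge (le_sup_left : V₁ ≤ V₁ ⊔ V₂) (by rw [e, h.f₁.card])).trans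
      (Subgroup.eq_of_le_of_card_ge (le_sup_right : V₂ ≤ V₁ ⊔ V₂) (by rw [e, h.f₂.card])).symm)
  have h4 := h.f₁.card ▸ Subgroup.card_le_of_le (le_sup_left : V₁ ≤ V₁ ⊔ V₂)
  have h5 : Nat.card ↥(V₁ ⊔ V₂) ∈ Nat.divisors 16 := Nat.mem_divisors.2 ⟨h1, by norm_num⟩
  rw [show Nat.divisors 16 = {1, 2, 4, 8, 16} from by decide] at h5
  simp only [Finset.mem_insert, Finset.mem_singleton] at h5
  omega

theorem T_cases {t : G} (ht : t ∈ T) : t ∈ V₁ ⊔ V₂ ∨ t * a ∈ V₁ ⊔ V₂ := by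
  by_cases hd : t ∈ V₁ ⊔ V₂
  · exact Or.inl hd
  refine Or.inr ?_
  have h2 : ((V₁ ⊔ V₂).subgroupOf T).index = 2 := by
    have := Subgroup.index_mul_card ((V₁ ⊔ V₂).subgroupOf T)
    rw [Nat.card_congr (Subgroup.subgroupOfEquivOfLe h.D_le).toEquiv, h.card_D, h.cardT] at this
    omega
  have h3 := Subgroup.mul_mem_iff_of_index_two h2 (a := ⟨t, ht⟩) (b := ⟨a, h.a_memT⟩)
  simp only [Subgroup.mem_subgroupOf, Subgroup.coe_mul] at h3
  exact h3.2 (iff_of_false hd h.a_notD)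

theorem sq_T {t : G} (ht : t ∈ T) : t * t = 1 ∨ t * t = z := by
  have key : ∀ d ∈ V₁ ⊔ V₂, d * d = 1 ∨ d * d = z := fun d hd => by
    obtain ⟨x, hx, y, hy, rfl⟩ := h.mem_D hd
    exact h.sq_prod hx hy
  rcases h.T_cases ht with hd | hd
  · exact key t hd
  · have e : t * a * (t * a) = t * t := by
      rw [mul_assoc, ← mul_assoc a t a, h.a_cent ht, mul_assoc t a a, h.a_sq, mul_one]
    rw [← e]; exact key _ hd

theorem center_T {u : G} (hu : u ∈ T) (hc : ∀ t ∈ T, u * t = t * u) :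
    u = 1 ∨ u = z ∨ u = a ∨ u = z * a := by
  rcases h.T_cases hu with hd | hd
  · rcases h.center_D hd (hc v (h.f₁.le h.hv)) (hc w (h.f₂.le h.hw)) with e | e
    · exact Or.inl e
    · exact Or.inr (Or.inl e)
  · have e : ∀ t ∈ T, u * a * t = t * (u * a) := fun t ht => by
      rw [mul_assoc, h.a_cent ht, ← mul_assoc, hc t ht, mul_assoc]
    rcases h.center_D hd (e v (h.f₁.le h.hv)) (e w (h.f₂.le h.hw)) with e' | e'
    · refine Or.inr (Or.inr (Or.inl ?_))
      rw [← mul_one u, ← h.a_sq, ← mul_assoc, e', one_mul]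
    · refine Or.inr (Or.inr (Or.inr ?_))
      rw [← mul_one u, ← h.a_sq, ← mul_assoc, e']

theorem z_memT : z ∈ T := h.f₁.le h.z_mem₁

theorem z_cent {t : G} (ht : t ∈ T) : z * t = t * z := by
  rcases h.T_cases ht with hd | hd
  · obtain ⟨x, hx, y, hy, rfl⟩ := h.mem_D hd
    rw [← mul_assoc, h.z_comm₁ hx, mul_assoc, h.z_comm₂ hy, mul_assoc]
  · obtain ⟨x, hx, y, hy, e⟩ := h.mem_D hd
    have e1 : t = x * y * a := by rw [← e, mul_assoc, h.a_sq, mul_one]
    rw [e1, ← mul_assoc, ← mul_assoc, h.z_comm₁ hx, mul_assoc x z y, h.z_comm₂ hy,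
      mul_assoc, mul_assoc, ← h.a_cent h.z_memT]
    group

theorem b_eq : b = z * a := by
  rcases h.center_T h.b_memT (fun t ht => h.b_cent ht) with e | e | e | e
  · exact absurd e h.b_ne
  · exact absurd (e ▸ h.z_mem₂) h.b_notMem
  · exact absurd e.symm h.a_ne_b
  · exact e

/-- Anything conjugating `T` into itself fixes `z`. -/
theorem fix_z {g : G} (hg : ∀ t ∈ T, g * t * g⁻¹ ∈ T) : g * z * g⁻¹ = z := by
  have e : g * z * g⁻¹ = g * (v * w) * g⁻¹ * (g * (v * w) * g⁻¹) := by rw [h.hz]; group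
  rcases h.sq_T (hg _ h.vwT) with h1 | h1
  · exact absurd (conj_eq_one_iff.1 (e.trans h1)) h.z_ne
  · exact e.trans h1

/-- `z` is not conjugate to `a`. -/
theorem z_ne_a {k : G} (hk : k * z * k⁻¹ = a) : False := by
  have hle : T.map (MulAut.conj k).toMonoidHom ≤ P₁ := by
    rintro _ ⟨t, ht, rfl⟩
    refine h.cent_a ?_
    show k * t * k⁻¹ * a = a * (k * t * k⁻¹)
    rw [← hk]
    have := congrArg (fun y => k * y * k⁻¹) (h.z_cent ht).symm
    simpa [mul_assoc] using this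
  obtain ⟨p, hp, hpT⟩ := CfsgLib.JComp.exists_conj_le h.f₁.syl hle (h.f₁.syl.2.1.map _)
  have hfix := h.fix_z (g := p * k) fun t ht => by
    have := hpT ⟨_, ⟨t, ht, rfl⟩, rfl⟩
    simpa [mul_assoc] using this
  have hpa : p * a * p⁻¹ = a := by rw [← h.f₁.A_cent a h.a_mem p hp, mul_inv_cancel_right]
  have e : z = a := by
    rw [← hfix, ← hpa, ← hk]; group
  exact h.a_notMem (e ▸ h.z_mem₁)

/-- No involution of `D` is conjugate to `a`. -/
theorem invol_D_ne {u g : G} (hu : u ∈ V₁ ⊔ V₂) (hg : g * a * g⁻¹ = u) : False := by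
  have h2 : u * u = 1 := by
    rw [← hg]
    calc g * a * g⁻¹ * (g * a * g⁻¹) = g * (a * a) * g⁻¹ := by group
      _ = 1 := by rw [h.a_sq]; group
  have hu1 : u ≠ 1 := fun e => h.a_ne (conj_eq_one_iff.1 (hg.trans e))
  have key : ∃ p, p * u * p⁻¹ = z := by
    rcases h.invol_D hu h2 with hu' | hu'
    · obtain ⟨p, -, -, hp⟩ := h.f₁.trans u hu' z h.z_mem₁ hu1 h.z_ne
      exact ⟨p, hp⟩
    · obtain ⟨p, -, -, hp⟩ := h.f₂.trans u hu' z h.z_mem₂ hu1 h.z_ne
      exact ⟨p, hp⟩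
  obtain ⟨p, hp⟩ := key
  refine h.z_ne_a (k := (p * g)⁻¹) ?_
  rw [← hp, ← hg]; group

/-! ### The normalizer of `T` in a Sylow 2-subgroup -/

section Sylow

variable {S : Sylow 2 G} (hTS : T ≤ (S : Subgroup G))
include hTS

theorem swap {n : G} (hn : n ∈ Subgroup.normalizer (T : Set G)) (hnS : n ∈ (S : Subgroup G))
    (hnT : n ∉ T) : n * a * n⁻¹ = b ∧ n * b * n⁻¹ = a := by
  have hTn : ∀ t ∈ T, n * t * n⁻¹ ∈ T := fun t ht => (Subgroup.mem_normalizer_iff.1 hn t).1 ht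
  have hz := h.fix_z hTn
  have hc : ∀ t ∈ T, n * a * n⁻¹ * t = t * (n * a * n⁻¹) := fun t ht => by
    have h1 : n⁻¹ * t * n ∈ T := (Subgroup.mem_normalizer_iff''.1 hn t).1 ht
    have := congrArg (fun y => n * y * n⁻¹) (h.a_cent h1)
    simpa [mul_assoc] using this
  have hna : n * a * n⁻¹ ≠ a := fun e => by
    have hP : n ∈ P₁ := h.cent_a (mul_inv_eq_iff_eq_mul.1 e)
    have hp : IsPGroup 2 ↥(T ⊔ Subgroup.zpowers n) :=
      S.isPGroup'.to_le (sup_le hTS (Subgroup.zpowers_le.2 hnS))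
    have := le_of_sylowTwoIn h.f₁.syl (X := T ⊔ Subgroup.zpowers n)
      (sup_le h.T_le₁ (Subgroup.zpowers_le.2 hP)) hp (le_sup_left.trans Subgroup.le_normalizer)
    exact hnT (this (Subgroup.mem_sup_right (Subgroup.mem_zpowers n)))
  have h1 : n * a * n⁻¹ = z * a := by
    rcases h.center_T (hTn a h.a_memT) hc with e | e | e | e
    · exact absurd (conj_eq_one_iff.1 e) h.a_ne
    · exact (h.a_notMem ((conj_injective' n (e.trans hz.symm)) ▸ h.z_mem₁)).elim
    · exact absurd e hna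
    · exact e
  refine ⟨h1.trans h.b_eq.symm, ?_⟩
  rw [h.b_eq, show n * (z * a) * n⁻¹ = n * z * n⁻¹ * (n * a * n⁻¹) by group, hz, h1, ← mul_assoc,
    h.f₁.sq z h.z_mem₁, one_mul]
where
  conj_injective' (n : G) {x y : G} (e : n * x * n⁻¹ = n * y * n⁻¹) : x = y :=
    mul_left_cancel (mul_right_cancel e)

theorem swap_V {n : G} (hn : n ∈ Subgroup.normalizer (T : Set G)) (hnS : n ∈ (S : Subgroup G))
    (hnT : n ∉ T) : (∀ x ∈ V₁, n * x * n⁻¹ ∈ V₂) ∧ (∀ x ∈ V₂, n * x * n⁻¹ ∈ V₁) := by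
  obtain ⟨ha, hb⟩ := h.swap hTS hn hnS hnT
  have key : ∀ {P P' V V' A A' : Subgroup G} {c c' : G}, Four P T V A → Four P' T V' A' →
      c ∈ A → (∀ g, g * c' = c' * g → g ∈ P') → n * c * n⁻¹ = c' →
      ∀ x ∈ V, n * x * n⁻¹ ∈ V' := by
    intro P P' V V' A A' c c' f f' hc hcent e x hx
    refine f'.res _ ((Subgroup.mem_normalizer_iff.1 hn x).1 (f.le hx)) ?_
    have hmap : (oddPart P).map (MulAut.conj n).toMonoidHom ≤ oddPart P' := by
      rw [oddPart, MonoidHom.map_closure, Subgroup.closure_le]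
      rintro _ ⟨g, ⟨hg, ho⟩, rfl⟩
      refine Subgroup.subset_closure ⟨hcent _ ?_, by rwa [MulEquiv.coe_toMonoidHom,
        MulEquiv.orderOf_eq]⟩
      show n * g * n⁻¹ * c' = c' * (n * g * n⁻¹)
      rw [← e]
      have := congrArg (fun y => n * y * n⁻¹) (f.A_cent c hc g hg).symm
      simpa [mul_assoc] using this
    exact hmap ⟨x, f.le_odd hx, rfl⟩
  refine ⟨key h.f₁ h.f₂ h.a_mem (fun g hg => ?_) ha,
    key h.f₂ h.f₁ h.b_mem (fun g hg => h.cent_a hg) hb⟩
  have hA1 : A₂ ≠ ⊥ := fun e => h.b_ne (by simpa [e] using h.b_mem)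
  rw [← normalizer_eq h.f₂.maxl (h.f₂.syl.2.1.to_le h.f₂.A_le) hA1 (fun p hp => ?_)]
  · rw [Subgroup.mem_normalizer_iff_map_conj_eq]
    refine Subgroup.eq_of_le_of_card_ge ?_ ?_
    · rintro _ ⟨x, hx, rfl⟩
      show g * x * g⁻¹ ∈ A₂
      rcases (h.hA₂ x).1 hx with rfl | rfl
      · simp
      · rw [hg, mul_inv_cancel_right]; exact hx
    · rw [Subgroup.card_map_of_injective (MulAut.conj g).injective]
  · rw [Subgroup.mem_normalizer_iff_map_conj_eq]
    refine Subgroup.eq_of_le_of_card_ge ?_ ?_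
    · rintro _ ⟨x, hx, rfl⟩
      show p * x * p⁻¹ ∈ A₂
      rw [← h.f₂.A_cent x hx p hp, mul_inv_cancel_right]; exact hx
    · rw [Subgroup.card_map_of_injective (MulAut.conj p).injective]

theorem fixed_invol {n : G} (hn : n ∈ Subgroup.normalizer (T : Set G)) (hnS : n ∈ (S : Subgroup G))
    (hnT : n ∉ T) {u : G} (hu : u ∈ T) (h2 : u * u = 1) (hfix : n * u * n⁻¹ = u) :
    u = 1 ∨ u = z := by
  obtain ⟨hV1, hV2⟩ := h.swap_V hTS hn hnS hnT
  rcases h.T_cases hu with hd | hd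
  · rcases h.invol_D hd h2 with h1 | h1
    · exact h.inter h1 (hfix ▸ hV1 u h1)
    · exact h.inter (hfix ▸ hV2 u h1) h1
  · exfalso
    have hd2 : u * a * (u * a) = 1 := by
      rw [mul_assoc, ← mul_assoc a u a, h.a_cent hu, mul_assoc u a a, h.a_sq, mul_one, h2]
    have hz := h.fix_z fun t ht => (Subgroup.mem_normalizer_iff.1 hn t).1 ht
    have e : n * (u * a) * n⁻¹ = u * a * z := by
      rw [show n * (u * a) * n⁻¹ = n * u * n⁻¹ * (n * a * n⁻¹) by group, hfix,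
        (h.swap hTS hn hnS hnT).1, h.b_eq, ← h.a_cent h.z_memT, mul_assoc]
    have hmem : u * a = 1 ∨ u * a = z := by
      rcases h.invol_D hd hd2 with h1 | h1
      · refine h.inter h1 ?_
        have := V₂.mul_mem (e ▸ hV1 _ h1) h.z_mem₂
        rwa [mul_assoc, h.f₂.sq z h.z_mem₂, mul_one] at this
      · refine h.inter ?_ h1
        have := V₁.mul_mem (e ▸ hV2 _ h1) h.z_mem₁
        rwa [mul_assoc, h.f₁.sq z h.z_mem₁, mul_one] at this
    rcases hmem with h1 | h1 <;> rw [h1] at e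
    · simp at e; exact h.z_ne e.symm
    · rw [hz] at e; exact h.z_ne (right_eq_mul.1 e)

/-- A conjugate of `T` inside `N_S(T)` lies in `T`. -/
theorem conj_in_T {y : G}
    (hy : ∀ t ∈ T, y * t * y⁻¹ ∈ (S : Subgroup G) ⊓ Subgroup.normalizer (T : Set G)) :
    ∀ t ∈ T, y * t * y⁻¹ ∈ T := by
  set Y : Subgroup G := T.comap (MulAut.conj y).toMonoidHom with hY
  have key : ∀ {V A : Subgroup G} {P : Subgroup G} {c : G}, Four P T V A → c ∈ A → c ∉ V →
      c * c = 1 → V ≤ Y ∧ c ∈ Y := by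
    intro V A P c f hc hcV hc2
    set U : Set G := insert c (V : Set G) with hU
    have hUT : ∀ x ∈ U, x ∈ T := by
      rintro x (rfl | hx)
      exacts [f.A_le hc, f.le hx]
    have hsq : ∀ x ∈ U, x * x = 1 := by
      rintro x (rfl | hx)
      exacts [hc2, f.sq x hx]
    have hcomm : ∀ x ∈ U, ∀ x' ∈ U, x * x' = x' * x := by
      rintro x (rfl | hx) x' (rfl | hx')
      exacts [rfl, f.A_cent x hc x' (f.syl.1 (f.le hx')),
        (f.A_cent x' hc x (f.syl.1 (f.le hx))).symm, f.comm hx hx']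
    have hall : ∀ x ∈ U, y * x * y⁻¹ ∈ T := by
      intro x hx
      by_contra hxT
      obtain ⟨hxS, hxN⟩ := hy x (hUT x hx)
      set x' := y * x * y⁻¹ with hx'
      have hsub : ∀ u ∈ U, y * u * y⁻¹ ∈ ({1, z, x', x' * z} : Set G) := by
        intro u hu
        obtain ⟨huS, huN⟩ := hy u (hUT u hu)
        have hcom : x' * (y * u * y⁻¹) = y * u * y⁻¹ * x' := by
          have := congrArg (fun g => y * g * y⁻¹) (hcomm x hx u hu)
          simpa [x', mul_assoc] using this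
        have hu2 : y * u * y⁻¹ * (y * u * y⁻¹) = 1 := by
          calc _ = y * (u * u) * y⁻¹ := by group
            _ = 1 := by rw [hsq u hu]; group
        have hx2 : x' * x' = 1 := by
          calc _ = y * (x * x) * y⁻¹ := by simp [x', mul_assoc]
            _ = 1 := by rw [hsq x hx]; group
        by_cases huT : y * u * y⁻¹ ∈ T
        · rcases h.fixed_invol hTS hxN hxS hxT huT hu2 (by rw [hcom, mul_inv_cancel_right]) with
            e | e <;> simp [e]
        · have hmem : x' * (y * u * y⁻¹) ∈ T := by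
            by_contra hprod
            obtain ⟨h1, -⟩ := h.swap hTS hxN hxS hxT
            obtain ⟨h2', h3⟩ := h.swap hTS huN huS huT
            obtain ⟨h4, -⟩ := h.swap hTS (Subgroup.mul_mem _ hxN huN)
              ((S : Subgroup G).mul_mem hxS huS) hprod
            obtain ⟨-, h5⟩ := h.swap hTS hxN hxS hxT
            have : x' * (y * u * y⁻¹) * a * (x' * (y * u * y⁻¹))⁻¹ = a := by
              rw [show x' * (y * u * y⁻¹) * a * (x' * (y * u * y⁻¹))⁻¹ =
                x' * (y * u * y⁻¹ * a * (y * u * y⁻¹)⁻¹) * x'⁻¹ by group, h2', h5]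
            exact h.a_ne_b (this.symm.trans h4)
          have hp2 : x' * (y * u * y⁻¹) * (x' * (y * u * y⁻¹)) = 1 := by
            rw [mul_assoc, ← mul_assoc (y * u * y⁻¹) x', ← hcom, mul_assoc x' (y * u * y⁻¹),
              hu2, mul_one, hx2]
          have hfix : x' * (x' * (y * u * y⁻¹)) * x'⁻¹ = x' * (y * u * y⁻¹) := by
            conv_lhs => rw [hcom]
            rw [mul_assoc x', mul_inv_cancel_right, hcom]
          have he : y * u * y⁻¹ = x' * (x' * (y * u * y⁻¹)) := by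
            rw [← mul_assoc, hx2, one_mul]
          rcases h.fixed_invol hTS hxN hxS hxT hmem hp2 hfix with e | e <;>
            rw [e] at he <;> simp [he]
      have hcard : U.ncard = 5 := by
        rw [hU, Set.ncard_insert_of_notMem hcV, ← Nat.card_coe_set_eq]
        show Nat.card V + 1 = 5
        rw [f.card]
      have h4 : (({1, z, x', x' * z} : Set G)).ncard ≤ 4 :=
        (Set.ncard_insert_le _ _).trans <| Nat.succ_le_succ <|
          (Set.ncard_insert_le _ _).trans <| Nat.succ_le_succ <|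
            (Set.ncard_insert_le _ _).trans <| Nat.succ_le_succ <| (Set.ncard_singleton _).le
      have := Set.ncard_le_ncard_of_injOn (fun u => y * u * y⁻¹) hsub
        (fun p _ q _ e => mul_left_cancel (mul_right_cancel e)) (Set.toFinite _)
      omega
    exact ⟨fun x hx => hall x (Or.inr hx), hall c (Or.inl rfl)⟩
  obtain ⟨h1, hca⟩ := key h.f₁ h.a_mem h.a_notMem h.a_sq
  have hb2 : b * b = 1 := by
    rcases (h.hA₂ _).1 (A₂.mul_mem h.b_mem h.b_mem) with e | e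
    · exact e
    · exact absurd (mul_eq_right.1 e) h.b_ne
  obtain ⟨h2, -⟩ := key h.f₂ h.b_mem h.b_notMem hb2
  intro t ht
  rcases h.T_cases ht with hd | hd
  · exact sup_le h1 h2 hd
  · have := Y.mul_mem (sup_le h1 h2 hd) hca
    rwa [mul_assoc, h.a_sq, mul_one] at this

end Sylow

/-- A Sylow 2-subgroup above `T` normalizes it, and in it every conjugate of `a` lies in `Da`. -/
theorem conj_mem {S : Sylow 2 G} (hTS : T ≤ (S : Subgroup G))
    (hZ : Subgroup.centralizer {x : G | x ∈ (S : Subgroup G) ∧ x ^ 2 = 1 ∧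
      ∀ s ∈ (S : Subgroup G), s * x = x * s} ≤ Subgroup.normalizer ((S : Subgroup G) : Set G)) :
    ((S : Subgroup G) ≤ Subgroup.normalizer (T : Set G)) ∧
    ∀ k : G, k * a * k⁻¹ ∈ (S : Subgroup G) → k * a * k⁻¹ * a ∈ V₁ ⊔ V₂ := by
  have hSN : (S : Subgroup G) ≤ Subgroup.normalizer (T : Set G) := by
    by_contra hnot
    set N := (S : Subgroup G) ⊓ Subgroup.normalizer (T : Set G)
    have hne : N ≠ (S : Subgroup G) := fun e => hnot (e ▸ inf_le_right)
    obtain ⟨y, hy, hyN, hyn⟩ :=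
      CfsgLib.LocalEvenCharP.exists_mem_normalizer_not_mem S.isPGroup' inf_le_left hne
    refine hyN ⟨hy, ?_⟩
    show y ∈ Subgroup.normalizer (T : Set G)
    rw [Subgroup.mem_normalizer_iff_map_conj_eq]
    refine Subgroup.eq_of_le_of_card_ge ?_ (by
      rw [Subgroup.card_map_of_injective (MulAut.conj y).injective])
    rintro _ ⟨t, ht, rfl⟩
    exact h.conj_in_T hTS (fun t ht => (Subgroup.mem_normalizer_iff.1 hyn t).1
      ⟨hTS ht, Subgroup.le_normalizer ht⟩) t ht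
  refine ⟨hSN, fun k hkS => ?_⟩
  set u := k * a * k⁻¹ with hu
  have hu2 : u * u = 1 := by
    calc u * u = k * (a * a) * k⁻¹ := by simp [u, mul_assoc]
      _ = 1 := by rw [h.a_sq]; group
  by_cases huT : u ∈ T
  · rcases h.T_cases huT with hd | hd
    · exact (h.invol_D_ne hd hu.symm).elim
    · exact hd
  exfalso
  have huN := hSN hkS
  obtain ⟨hua, -⟩ := h.swap hTS huN hkS huT
  obtain ⟨hV1, -⟩ := h.swap_V hTS huN hkS huT
  set v' := u * v * u⁻¹ with hv'
  have hv'2 : v' ∈ V₂ := hV1 v h.hv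
  have huinv : u⁻¹ = u := inv_eq_of_mul_eq_one_left hu2
  have hzfix := h.fix_z (g := u) fun t ht => (Subgroup.mem_normalizer_iff.1 huN t).1 ht
  have hcross : v * v' * (v * v') ≠ 1 := fun e => by
    rcases h.comm_cross h.hv hv'2
      (Four.comm.mul_eq_comm_of_sq (h.f₁.sq v h.hv) (h.f₂.sq v' hv'2) e) with (e' | e') | e' | e'
    · exact h.v_ne e'
    · exact h.v_ne_z e'
    · exact h.v_ne (conj_eq_one_iff.1 e')
    · exact h.v_ne_z (mul_left_cancel (mul_right_cancel (e'.trans hzfix.symm)))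
  have hvv : v * v' * (v * v') = z := (h.sq_prod h.hv hv'2).resolve_left hcross
  set q := v * v' * a with hq
  have hq2 : q * q = z := by
    have hm : v * v' ∈ T := T.mul_mem (h.f₁.le h.hv) (h.f₂.le hv'2)
    rw [hq, mul_assoc (v * v') a, ← mul_assoc a (v * v') a, h.a_cent hm, mul_assoc (v * v') a a,
      h.a_sq, mul_one, hvv]
  have hsw : v' * v * z = v * v' := by
    rw [← hvv, show v' * v * (v * v' * (v * v')) = v' * (v * v) * v' * (v * v') by group,
      h.f₁.sq v h.hv, mul_one, h.f₂.sq v' hv'2, one_mul]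
  have huq : u * q = q * u := by
    refine mul_inv_eq_iff_eq_mul.1 ?_
    have e1 : u * v' * u⁻¹ = v := by
      rw [hv', huinv, show u * (u * v * u) * u = u * u * v * (u * u) by group, hu2, one_mul, mul_one]
    rw [show u * q * u⁻¹ = (u * v * u⁻¹) * (u * v' * u⁻¹) * (u * a * u⁻¹) by
      simp [q, mul_assoc], e1, hua, h.b_eq, ← mul_assoc, hsw]
  have hqk : k⁻¹ * q * k ∈ P₁ := h.cent_a (by
    have := congrArg (fun g => k⁻¹ * g * k) huq.symm
    simpa [u, mul_assoc] using this)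
  have hq4 : q ^ 4 = 1 := by
    rw [show (4 : ℕ) = 2 + 2 from rfl, pow_add, pow_two, hq2]; exact h.f₁.sq z h.z_mem₁
  have hzp : IsPGroup 2 (Subgroup.zpowers (k⁻¹ * q * k)) := by
    have h4 : (k⁻¹ * q * k) ^ 4 = 1 := by
      calc (k⁻¹ * q * k) ^ 4 = k⁻¹ * q ^ 4 * k := by simp [pow_succ, mul_assoc]
        _ = 1 := by rw [hq4]; group
    rintro ⟨_, i, rfl⟩
    refine ⟨2, Subtype.ext ?_⟩
    show ((k⁻¹ * q * k) ^ i) ^ (2 ^ 2) = 1
    rw [← zpow_natCast, ← zpow_mul, mul_comm, zpow_mul, zpow_natCast]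
    rw [show (2 : ℕ) ^ 2 = 4 from rfl, h4, one_zpow]
  obtain ⟨p, hp, hpT⟩ :=
    CfsgLib.JComp.exists_conj_le h.f₁.syl (Subgroup.zpowers_le.2 hqk) hzp
  have hpT' : p * (k⁻¹ * q * k) * p⁻¹ ∈ T := hpT ⟨_, Subgroup.mem_zpowers _, rfl⟩
  have hpa : p * a * p⁻¹ = a := by rw [← h.f₁.A_cent a h.a_mem p hp, mul_inv_cancel_right]
  set k' := k * p⁻¹ with hk'
  have hk'a : k' * a * k'⁻¹ = u := by
    conv_lhs => rw [← hpa]
    simp [k', u, mul_assoc]
  have hk'z : k' * z * k'⁻¹ = z := by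
    have e : p * (k⁻¹ * q * k) * p⁻¹ * (p * (k⁻¹ * q * k) * p⁻¹) = k'⁻¹ * z * k' := by
      rw [← hq2]; simp [k', mul_assoc]
    rcases h.sq_T hpT' with h1 | h1
    · rw [e] at h1
      exact absurd (by simpa [mul_assoc] using congrArg (fun g => k' * g * k'⁻¹) h1) h.z_ne
    · rw [e] at h1
      have := congrArg (fun g => k' * g * k'⁻¹) h1
      simpa [mul_assoc] using this.symm
  have hk'N : k' ∈ Subgroup.normalizer ((S : Subgroup G) : Set G) := by
    refine hZ (Subgroup.mem_centralizer_iff.2 ?_)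
    rintro x ⟨hxS, -, hxc⟩
    have hxT : x ∈ T := by
      by_contra hxT
      obtain ⟨e, -⟩ := h.swap hTS (hSN hxS) hxS hxT
      exact h.a_ne_b (by rw [← e, ← hxc a (hTS h.a_memT), mul_inv_cancel_right])
    have hfix : u * x * u⁻¹ = x := by rw [hxc u hkS, mul_inv_cancel_right]
    obtain ⟨hua', hub⟩ := h.swap hTS huN hkS huT
    rcases h.center_T hxT (fun t ht => (hxc t (hTS ht)).symm) with rfl | rfl | rfl | rfl
    · simp
    · exact (mul_inv_eq_iff_eq_mul.1 hk'z).symm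
    · exact absurd (hfix.symm.trans hua') h.a_ne_b
    · rw [← h.b_eq] at hfix; exact absurd (hub.symm.trans hfix) h.a_ne_b
  exact huT (hk'a ▸ h.conj_in_T hTS (fun t ht =>
    ⟨(Subgroup.mem_normalizer_iff.1 hk'N t).1 (hTS ht),
      hSN ((Subgroup.mem_normalizer_iff.1 hk'N t).1 (hTS ht))⟩) a h.a_memT)

/-- The central involution lies outside every normal subgroup containing all elements of odd
order that is generated by them. -/
theorem a_notMem_odd (hZ : ∀ S : Sylow 2 G, Subgroup.centralizer {x : G | x ∈ (S : Subgroup G) ∧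
    x ^ 2 = 1 ∧ ∀ s ∈ (S : Subgroup G), s * x = x * s} ≤
      Subgroup.normalizer ((S : Subgroup G) : Set G)) :
    a ∉ Subgroup.closure {g : G | Odd (orderOf g)} := by
  classical
  obtain ⟨S, hTS⟩ := h.f₁.syl.2.1.exists_le_sylow
  obtain ⟨hSN, hconj⟩ := h.conj_mem hTS (hZ S)
  set D := V₁ ⊔ V₂ with hD
  have hDS : D ≤ (S : Subgroup G) := h.D_le.trans hTS
  have hDn : (S : Subgroup G) ≤ Subgroup.normalizer (D : Set G) := fun n hn => by
    by_cases hnT : n ∈ T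
    · rw [Subgroup.mem_normalizer_iff_map_conj_eq, hD, Subgroup.map_sup,
        Subgroup.mem_normalizer_iff_map_conj_eq.1 (h.norm₁ hnT),
        Subgroup.mem_normalizer_iff_map_conj_eq.1 (h.norm₂ hnT)]
    · obtain ⟨h1, h2⟩ := h.swap_V hTS (hSN hn) hn hnT
      rw [Subgroup.mem_normalizer_iff_map_conj_eq]
      refine Subgroup.eq_of_le_of_card_ge ?_ (by
        rw [Subgroup.card_map_of_injective (MulAut.conj n).injective])
      rw [hD, Subgroup.map_sup]
      refine sup_le ?_ ?_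
      · rintro _ ⟨x, hx, rfl⟩; exact Subgroup.mem_sup_right (h1 x hx)
      · rintro _ ⟨x, hx, rfl⟩; exact Subgroup.mem_sup_left (h2 x hx)
  set Q := D.subgroupOf (S : Subgroup G) with hQ
  haveI : Q.Normal := Subgroup.normal_subgroupOf_of_le_normalizer hDn
  have hTi : (T.subgroupOf (S : Subgroup G)).index ≤ 2 := by
    by_cases hcase : (S : Subgroup G) ≤ T
    · rw [Subgroup.subgroupOf_eq_top.2 hcase, Subgroup.index_top]; norm_num
    · obtain ⟨n, hn, hnT⟩ := SetLike.not_le_iff_exists.1 hcase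
      refine le_of_eq (Subgroup.index_eq_two_iff.2 ⟨⟨n, hn⟩, fun ⟨s, hs⟩ => ?_⟩)
      simp only [Subgroup.mem_subgroupOf, Subgroup.coe_mul]
      by_cases hsT : s ∈ T
      · exact Or.inr ⟨hsT, fun hm => hnT ((Subgroup.mul_mem_cancel_left _ hsT).1 hm)⟩
      · refine Or.inl ⟨?_, hsT⟩
        by_contra hm
        obtain ⟨e1, -⟩ := h.swap hTS (hSN ((S : Subgroup G).mul_mem hs hn))
          ((S : Subgroup G).mul_mem hs hn) hm
        obtain ⟨e2, -⟩ := h.swap hTS (hSN hn) hn hnT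
        obtain ⟨-, e3⟩ := h.swap hTS (hSN hs) hs hsT
        refine h.a_ne_b ?_
        rw [← e1, show s * n * a * (s * n)⁻¹ = s * (n * a * n⁻¹) * s⁻¹ by group, e2, e3]
  have hQi : Q.index ≤ 4 := by
    have e := Subgroup.relIndex_mul_relIndex D T (S : Subgroup G) h.D_le hTS
    have e2 : D.relIndex T = 2 := by
      have := Subgroup.index_mul_card (D.subgroupOf T)
      rw [Nat.card_congr (Subgroup.subgroupOfEquivOfLe h.D_le).toEquiv, h.card_D, h.cardT] at this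
      show (D.subgroupOf T).index = 2
      omega
    rw [e2] at e
    show D.relIndex (S : Subgroup G) ≤ 4
    rw [← e]
    have : T.relIndex (S : Subgroup G) ≤ 2 := hTi
    omega
  have hA2 : IsPGroup 2 (↥(S : Subgroup G) ⧸ Q) := S.isPGroup'.to_quotient Q
  have hA : ∀ x y : ↥(S : Subgroup G) ⧸ Q, x * y = y * x := by
    obtain ⟨n, hn⟩ := (IsPGroup.iff_card).1 hA2
    have hle : Nat.card (↥(S : Subgroup G) ⧸ Q) ≤ 4 := hQi
    rw [hn] at hle
    rcases show n = 0 ∨ n = 1 ∨ n = 2 by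
      rcases Nat.lt_or_ge n 3 with h3 | h3
      · omega
      · have := Nat.pow_le_pow_right (show 2 > 0 by norm_num) h3; omega
      with rfl | rfl | rfl
    · haveI := (Nat.card_eq_one_iff_unique.1 (by simpa using hn)).1
      exact fun x y => Subsingleton.elim _ _
    · haveI : IsCyclic (↥(S : Subgroup G) ⧸ Q) := isCyclic_of_prime_card (by simpa using hn)
      letI := IsCyclic.commGroup (α := ↥(S : Subgroup G) ⧸ Q)
      exact fun x y => mul_comm x y
    · exact fun x y => IsPGroup.commutative_of_card_eq_prime_sq (p := 2) hn x y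
  letI : CommGroup (↥(S : Subgroup G) ⧸ Q) := { (inferInstance : Group _) with mul_comm := hA }
  set φ := QuotientGroup.mk' Q
  set c := φ ⟨a, hTS h.a_memT⟩ with hc
  have hc2 : c ^ 2 = 1 := by
    rw [hc, ← map_pow, show (⟨a, hTS h.a_memT⟩ : ↥(S : Subgroup G)) ^ 2 = 1 from
      Subtype.ext (by simpa [pow_two] using h.a_sq), map_one]
  have hodd : Odd (S : Subgroup G).index := by
    rw [← Nat.not_even_iff_odd, even_iff_two_dvd]; exact S.not_dvd_index
  have hval : φ.transfer a = c := by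
    refine CfsgLib.Transfer.transfer_involution φ (by rw [pow_two]; exact h.a_sq) hc2 hodd
      fun g hg => ?_
    have h1 : g⁻¹ * a * g * a ∈ D := by simpa using hconj g⁻¹ (by simpa using hg)
    refine (QuotientGroup.mk'_eq_mk' Q).2 ⟨⟨(g⁻¹ * a * g)⁻¹ * a, (S : Subgroup G).mul_mem ((S : Subgroup G).inv_mem hg)
      (hTS h.a_memT)⟩, ?_, Subtype.ext (mul_inv_cancel_left (g⁻¹ * a * g) a)⟩
    show (g⁻¹ * a * g)⁻¹ * a ∈ D
    have e : (g⁻¹ * a * g)⁻¹ = g⁻¹ * a * g := by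
      rw [inv_eq_iff_mul_eq_one,
        show g⁻¹ * a * g * (g⁻¹ * a * g) = g⁻¹ * (a * a) * g by group, h.a_sq]
      group
    rw [e]; exact h1
  have hker : Subgroup.closure {g : G | Odd (orderOf g)} ≤ φ.transfer.ker := by
    rw [Subgroup.closure_le]
    intro g hg
    obtain ⟨j, hj⟩ := hA2 (φ.transfer g)
    exact eq_one_of_two_pow_odd (by rw [← map_pow, pow_orderOf_eq_one, map_one]) hg hj
  intro ha
  have := hker ha
  rw [MonoidHom.mem_ker, hval, hc, ← MonoidHom.mem_ker, QuotientGroup.ker_mk'] at this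
  exact h.a_notD this

end Frame₂

end CfsgLib.ZNStructure
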