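import Mathlib
import Cfsg.Prelude.Def_JComponents
import Cfsg.Agent.Lib.LocalEven.CharP
import Cfsg.Agent.Lib.LocalEven.JComp.Setting

/-!
Maximal 2-local subgroups isomorphic to `S₄ × C` with `C` elementary abelian, seen inside the group.
-/

set_option autoImplicit false
set_option maxRecDepth 100000

open Cfsg

namespace CfsgLib.ZNStructure

instance fact_two : Fact (Nat.Prime 2) := ⟨Nat.prime_two⟩

/-- The four-group of `S₄`. -/
def klein : Subgroup (Equiv.Perm (Fin 4)) where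
  carrier := {v | v * v = 1 ∧ Equiv.Perm.sign v = 1}
  mul_mem' := by
    intro a b ha hb
    revert a b
    decide
  one_mem' := by simp
  inv_mem' := by
    intro a ha
    revert a
    decide

theorem mem_klein {v : Equiv.Perm (Fin 4)} : v ∈ klein ↔ v * v = 1 ∧ Equiv.Perm.sign v = 1 :=
  Iff.rfl

instance decMemKlein : DecidablePred (· ∈ klein) := fun v =>
  decidable_of_iff _ (mem_klein (v := v)).symm

theorem card_klein : Nat.card klein = 4 := by
  rw [Nat.card_eq_fintype_card]; decide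

theorem klein_conj : ∀ σ v : Equiv.Perm (Fin 4), v ∈ klein → σ * v * σ⁻¹ ∈ klein := by
  decide

theorem klein_trans : ∀ v w : Equiv.Perm (Fin 4), v ∈ klein → w ∈ klein → v ≠ 1 → w ≠ 1 →
    ∃ σ : Equiv.Perm (Fin 4), σ ^ 3 = 1 ∧ σ * v * σ⁻¹ = w := by
  decide

theorem klein_prod : ∀ v : Equiv.Perm (Fin 4), v ∈ klein →
    ∃ a b : Equiv.Perm (Fin 4), a ^ 3 = 1 ∧ b ^ 3 = 1 ∧ v = a * b := by
  decide

theorem klein_cent : ∀ σ : Equiv.Perm (Fin 4), (∀ v, v ∈ klein → σ * v = v * σ) → σ ∈ klein := by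
  decide

theorem even_cases : ∀ σ : Equiv.Perm (Fin 4), Equiv.Perm.sign σ = 1 → σ ∈ klein ∨ σ ^ 3 = 1 := by
  decide

theorem outer_three : ∀ σ : Equiv.Perm (Fin 4), σ ∉ klein → σ ^ 3 ≠ 1 →
    ∃ τ : Equiv.Perm (Fin 4),
      (σ * (τ * σ⁻¹ * τ⁻¹)) ^ 3 = 1 ∧ σ * (τ * σ⁻¹ * τ⁻¹) ≠ 1 := by
  decide

variable {G : Type*} [Group G] [Finite G]

/-- The subgroup generated by the elements of odd order of a subgroup. -/
def oddPart (P : Subgroup G) : Subgroup G := Subgroup.closure {g | g ∈ P ∧ Odd (orderOf g)}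

theorem odd_of_cube {g : G} (h : g ^ 3 = 1) : Odd (orderOf g) :=
  Odd.of_dvd_nat (by decide) (orderOf_dvd_of_pow_eq_one h)

theorem eq_one_of_two_pow_odd {M : Type*} [Monoid M] {x : M} {n k : ℕ} (h1 : x ^ n = 1)
    (hn : Odd n) (h2 : x ^ 2 ^ k = 1) : x = 1 := by
  have hc : n.Coprime (2 ^ k) := (hn.coprime_two_right).pow_right k
  rw [← pow_one x, ← hc.gcd_eq_one]
  exact pow_gcd_eq_one.mpr ⟨h1, h2⟩

/-- A 2-subgroup normalized by `T` lies in `T` when `T` is a Sylow 2-subgroup of the group around. -/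
theorem le_of_sylowTwoIn {T P X : Subgroup G} (hT : Cfsg.IsSylowTwoIn T P) (hXP : X ≤ P)
    (hX : IsPGroup 2 X) (hn : T ≤ Subgroup.normalizer (X : Set G)) : X ≤ T := by
  have hp : IsPGroup 2 ↥(T ⊔ X) := hT.2.1.to_sup_of_normal_right' hX hn
  have h := Subgroup.relIndex_mul_relIndex T (T ⊔ X) P le_sup_left (sup_le hT.1 hXP)
  have hodd : Odd (T.relIndex (T ⊔ X)) := Odd.of_dvd_nat hT.2.2 (Dvd.intro _ h)
  obtain ⟨k, hk⟩ := (IsPGroup.iff_card).1 hp
  obtain ⟨j, -, hj⟩ := (Nat.dvd_prime_pow Nat.prime_two).1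
    (show T.relIndex (T ⊔ X) ∣ 2 ^ k from hk ▸ (Subgroup.relIndex_dvd_card T (T ⊔ X)))
  have h1 : T.relIndex (T ⊔ X) = 1 := by
    rw [hj] at hodd ⊢
    rcases Nat.eq_zero_or_pos j with rfl | hj0
    · simp
    · exact absurd hodd (Nat.not_odd_iff_even.2 (Nat.even_pow.2 ⟨even_two, hj0.ne'⟩))
  exact le_sup_right.trans (Subgroup.relIndex_eq_one.1 h1)

/-- A maximal 2-local subgroup is the whole normalizer of any nontrivial 2-subgroup it normalizes. -/
theorem normalizer_eq {P X : Subgroup G} (hP : Cfsg.IsMaximalTwoLocal P) (hX : IsPGroup 2 X)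
    (hX1 : X ≠ ⊥) (hn : P ≤ Subgroup.normalizer (X : Set G)) :
    Subgroup.normalizer (X : Set G) = P :=
  hP.2 _ ⟨X, hX, hX1, rfl⟩ hn

/-- What is used of a maximal 2-local `P ≅ S₄ × C`: its four-group `V`, with `A` the image of `C`. -/
structure Four (P T V A : Subgroup G) : Prop where
  maxl : Cfsg.IsMaximalTwoLocal P
  syl : Cfsg.IsSylowTwoIn T P
  card : Nat.card V = 4
  le : V ≤ T
  sq : ∀ v ∈ V, v * v = 1
  norm : P ≤ Subgroup.normalizer (V : Set G)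
  normEq : Subgroup.normalizer (V : Set G) = P
  le_odd : V ≤ oddPart P
  res : ∀ x ∈ T, x ∈ oddPart P → x ∈ V
  trans : ∀ v ∈ V, ∀ w ∈ V, v ≠ 1 → w ≠ 1 → ∃ x ∈ P, Odd (orderOf x) ∧ x * v * x⁻¹ = w
  A_le : A ≤ T
  A_cent : ∀ a ∈ A, ∀ p ∈ P, a * p = p * a
  A_inf : ∀ v ∈ V, v ∈ A → v = 1
  cent : ∀ p ∈ P, (∀ v ∈ V, p * v = v * p) → ∃ v ∈ V, ∃ a ∈ A, p = v * a
  perm : ∃ π : ↥P →* Equiv.Perm (Fin 4), (∀ p : ↥P, π p = 1 → (p : G) ∈ A) ∧
    ∀ p : ↥P, π p ∈ klein → ∃ v ∈ V, ∃ h : v ∈ P, π ⟨v, h⟩ = π p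

theorem exists_four {P T : Subgroup G} {C : Type*} [CommGroup C] (hC : ∀ c : C, c * c = 1)
    (e : ↥P ≃* Equiv.Perm (Fin 4) × C) (hP : Cfsg.IsMaximalTwoLocal P)
    (hT : Cfsg.IsSylowTwoIn T P) :
    ∃ V A : Subgroup G, Four P T V A ∧ Nat.card A = Nat.card C ∧
      Nat.card P = 24 * Nat.card C := by
  classical
  set φ : Equiv.Perm (Fin 4) →* G :=
    P.subtype.comp (e.symm.toMonoidHom.comp (MonoidHom.inl _ C)) with hφ
  set ψ : C →* G :=
    P.subtype.comp (e.symm.toMonoidHom.comp (MonoidHom.inr (Equiv.Perm (Fin 4)) C)) with hψ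
  have hφinj : Function.Injective φ := fun a b h => by
    have := e.symm.injective (Subtype.ext h)
    exact (Prod.mk.inj this).1
  have hψinj : Function.Injective ψ := fun a b h => by
    have := e.symm.injective (Subtype.ext h)
    exact (Prod.mk.inj this).2
  have hφP : ∀ σ, φ σ ∈ P := fun σ => (e.symm (σ, 1)).2
  have hψP : ∀ c, ψ c ∈ P := fun c => (e.symm (1, c)).2
  have hdec : ∀ p : ↥P, (p : G) = φ (e p).1 * ψ (e p).2 := fun p => by
    show (p : G) = ((e.symm ((e p).1, 1) * e.symm (1, (e p).2) : ↥P) : G)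
    rw [← map_mul]; simp
  have heφ : ∀ σ, e ⟨φ σ, hφP σ⟩ = (σ, 1) := fun σ => e.apply_symm_apply (σ, 1)
  have hconj : ∀ (p : ↥P) (σ), (p : G) * φ σ * (p : G)⁻¹ = φ ((e p).1 * σ * (e p).1⁻¹) := by
    intro p σ
    show ((p * e.symm (σ, 1) * p⁻¹ : ↥P) : G) = ((e.symm ((e p).1 * σ * (e p).1⁻¹, 1) : ↥P) : G)
    congr 1
    apply e.injective
    simp [Prod.ext_iff]
  set V := klein.map φ with hV
  set A := ψ.range with hA
  have hVcard : Nat.card V = 4 := by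
    rw [hV, Subgroup.card_map_of_injective hφinj, card_klein]
  have hVP : V ≤ P := by rintro _ ⟨σ, -, rfl⟩; exact hφP σ
  have hAP : A ≤ P := by rintro _ ⟨c, rfl⟩; exact hψP c
  have hVnorm : P ≤ Subgroup.normalizer (V : Set G) := fun p hp => by
    have key : ∀ q ∈ P, ∀ v ∈ V, q * v * q⁻¹ ∈ V := by
      rintro q hq _ ⟨σ, hσ, rfl⟩
      exact ⟨_, klein_conj _ σ hσ, (hconj ⟨q, hq⟩ σ).symm⟩
    rw [Subgroup.mem_normalizer_iff]
    exact fun v => ⟨key p hp v, fun h => by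
      simpa [mul_assoc] using key p⁻¹ (P.inv_mem hp) _ h⟩
  have hV2 : IsPGroup 2 V := IsPGroup.of_card (n := 2) (by rw [hVcard]; norm_num)
  have hVT : V ≤ T := le_of_sylowTwoIn hT hVP hV2 (hT.1.trans hVnorm)
  have hAc : ∀ a ∈ A, ∀ p ∈ P, a * p = p * a := by
    rintro _ ⟨c, rfl⟩ p hp
    show ((e.symm (1, c) * ⟨p, hp⟩ : ↥P) : G) = ((⟨p, hp⟩ * e.symm (1, c) : ↥P) : G)
    congr 1
    apply e.injective
    simp [Prod.ext_iff, mul_comm]
  have hA2 : IsPGroup 2 A := by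
    rintro ⟨_, c, rfl⟩
    exact ⟨1, Subtype.ext (by show ψ c ^ 2 ^ 1 = 1; rw [← map_pow]; simp [pow_two, hC])⟩
  have hAn : P ≤ Subgroup.normalizer (A : Set G) := fun p hp => by
    rw [Subgroup.mem_normalizer_iff]
    intro a
    constructor
    · intro ha
      rw [show p * a * p⁻¹ = a by rw [← hAc a ha p hp]; simp]
      exact ha
    · intro ha
      have := hAc _ ha p hp
      have e1 : a = p * a * p⁻¹ := by
        have h2 : p * a * p⁻¹ * p = p * (p * a * p⁻¹) := this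
        simp only [inv_mul_cancel_right] at h2
        exact mul_left_cancel h2
      rw [e1]; exact ha
  have hAT : A ≤ T := le_of_sylowTwoIn hT hAP hA2 (hT.1.trans hAn)
  have hV1 : V ≠ ⊥ := fun h => by rw [h, Subgroup.card_bot] at hVcard; norm_num at hVcard
  have hodd : oddPart P ≤ (MonoidHom.ker Equiv.Perm.sign).map φ := by
    rw [oddPart, Subgroup.closure_le]
    rintro g ⟨hg, ho⟩
    set p : ↥P := ⟨g, hg⟩
    have hop : Odd (orderOf (e p)) := by
      rwa [MulEquiv.orderOf_eq, Subgroup.orderOf_mk]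
    have h1 : (e p) ^ orderOf (e p) = 1 := pow_orderOf_eq_one _
    have hc : (e p).2 = 1 :=
      eq_one_of_two_pow_odd (k := 1) (congrArg Prod.snd h1) hop (by simp [pow_two, hC])
    have hs : Equiv.Perm.sign (e p).1 = 1 := by
      have h2 : Equiv.Perm.sign (e p).1 ^ orderOf (e p) = 1 := by
        rw [← map_pow, ← Prod.pow_fst, h1]; exact map_one _
      exact eq_one_of_two_pow_odd (k := 1) h2 hop (by simp [Int.units_mul_self, pow_two])
    exact ⟨(e p).1, hs, by have := hdec p; rw [hc, map_one, mul_one] at this; exact this.symm⟩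
  refine ⟨V, A, ⟨hP, hT, hVcard, hVT, ?_, hVnorm, normalizer_eq hP hV2 hV1 hVnorm, ?_, ?_, ?_,
    hAT, hAc, ?_, ?_, ?_⟩, ?_, ?_⟩
  · rintro _ ⟨σ, hσ, rfl⟩
    rw [← map_mul, hσ.1, map_one]
  · rintro _ ⟨σ, hσ, rfl⟩
    obtain ⟨a, b, ha, hb, rfl⟩ := klein_prod σ hσ
    rw [map_mul]
    exact mul_mem
      (Subgroup.subset_closure ⟨hφP a, odd_of_cube (by rw [← map_pow, ha, map_one])⟩)
      (Subgroup.subset_closure ⟨hφP b, odd_of_cube (by rw [← map_pow, hb, map_one])⟩)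
  · intro x hx hxo
    obtain ⟨σ, hσ, rfl⟩ := hodd hxo
    rcases even_cases σ hσ with h | h
    · exact ⟨σ, h, rfl⟩
    · obtain ⟨k, hk⟩ := hT.2.1 ⟨φ σ, hx⟩
      have hk' : φ σ ^ 2 ^ k = 1 := congrArg Subtype.val hk
      rw [eq_one_of_two_pow_odd (n := 3) (by rw [← map_pow, h, map_one]) (by decide) hk']
      exact one_mem _
  · rintro _ ⟨v, hv, rfl⟩ _ ⟨w, hw, rfl⟩ hv1 hw1
    obtain ⟨σ, h3, hσ⟩ := klein_trans v w hv hw (fun h => hv1 (by rw [h, map_one]))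
      (fun h => hw1 (by rw [h, map_one]))
    exact ⟨φ σ, hφP σ, odd_of_cube (by rw [← map_pow, h3, map_one]),
      by rw [← map_inv, ← map_mul, ← map_mul, hσ]⟩
  · rintro _ ⟨σ, hσ, rfl⟩ ⟨c, hc⟩
    have h : e.symm (1, c) = e.symm (σ, 1) := Subtype.ext hc
    rw [show σ = 1 from (Prod.mk.inj (e.symm.injective h)).1.symm, map_one]
  · intro p hp hcent
    set q : ↥P := ⟨p, hp⟩
    have hk : (e q).1 ∈ klein := klein_cent _ fun v hv => by
      have h1 := hconj q v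
      have h2 : p * φ v * p⁻¹ = φ v := by
        rw [hcent (φ v) ⟨v, hv, rfl⟩, mul_inv_cancel_right]
      exact mul_inv_eq_iff_eq_mul.1 (hφinj (h1.symm.trans h2))
    exact ⟨_, ⟨_, hk, rfl⟩, _, ⟨_, rfl⟩, hdec q⟩
  · refine ⟨(MonoidHom.fst _ C).comp e.toMonoidHom, fun p hp => ?_, fun p hp => ?_⟩
    · have := hdec p
      rw [show (e p).1 = 1 from hp, map_one, one_mul] at this
      exact ⟨_, this.symm⟩
    · refine ⟨φ (e p).1, ⟨_, hp, rfl⟩, hφP _, ?_⟩
      exact (congrArg Prod.fst (heφ (e p).1) :)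
  · exact Nat.card_congr (MonoidHom.ofInjective hψinj).toEquiv.symm
  · rw [Nat.card_congr e.toEquiv, Nat.card_prod, Nat.card_perm, Nat.card_fin]
    rfl

end CfsgLib.ZNStructure
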